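import Cfsg.Agent.H258.TwoB.Link
import Cfsg.Agent.H633.Ore.Co2Ore
import Cfsg.Agent.H494.TwoB.P1
import Cfsg.Agent.H658.TwoB.TwentyThree
import Cfsg.Agent.H715.Mon.Norm_m3
import Cfsg.Agent.H123.Cls.SuzOre
import Cfsg.Agent.BpSpor.MFiveAbs
import Cfsg.Agent.H480.Ore.FiBThree
import Cfsg.Agent.H844.Ore.BReal
import Cfsg.Agent.LThreeCo1.Ranks
import Cfsg.Agent.H573.U33.Conj
import Cfsg.Agent.H478.SporBaby
import Cfsg.Agent.H705.OreB.Prime
import Cfsg.Agent.H860.QS.Asm_mg_m3
import Cfsg.Agent.H326.QS.FiFinal_m3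
import Cfsg.Agent.OrdDiv.Table
import Cfsg.Agent.S0000
import Cfsg.Agent.LThreeMB.SpanQ
import Cfsg.Agent.FastGrp
import Cfsg.Agent.Prune
set_option linter.all false
prune_inst 0x7ffcfffbeff8bfffffff7e7faffddffdfff9ffffefdff9cbffedfbffffff6b6fefe5fbaf8fecd0fefef6e23c90f87b53fbffeeffe36fdc7ffffd5ff45ffbffdfffffbf0c71f6bc3e1ffc6ffffbf37fae7f3fffffffffffffffffffffffffffffffffffffffff
open scoped Cfsg.Agent.FastGrp

-- part: H258/TwoB/Fin
section
/-!
# P3 of 2.B for `Spor.Co2`, final form (helper258)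
-/

set_option autoImplicit false

namespace Cfsg.Agent.H258.TwoB

open Cfsg

/-- **P3**: the hypothesis `H` of `Cfsg.Agent.H253.TwoB.f23h_of` -/
theorem tab (l : Spor.Co2) (hl : l ≠ 1) (ho : (∃ k, orderOf l = 2 ^ k) ∨ orderOf l = 3) :
    Cfsg.Agent.H253.TwoB.F23t (Cfsg.Agent.H612.CoT.Gens.tt 0) (Cfsg.Agent.H612.CoT.Gens.tt 1) l := by
  refine tab_of (fun g => ?_) l hl ho
  obtain ⟨w, hw, h⟩ := Cfsg.Agent.H633.Ore.Co2.cover g
  exact ⟨w, by rw [← Cfsg.Agent.H633.Ore.Co2.reps_cw]; exact hw, h⟩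

end Cfsg.Agent.H258.TwoB
end

-- part: H258/TwoB/Final
section
/-!
# P3 of 2.B in the form of helper658 (helper258)
-/

set_option autoImplicit false

namespace Cfsg.Agent.H258.TwoB

/-- the table for `Co2` -/
theorem hTab : Cfsg.Agent.H658.TwoB.HTab := tab

end Cfsg.Agent.H258.TwoB
end

-- part: H658/TwoB/Four
section
/-!
# Vectors of type 4 (helper658, row 2.B of S2491/S2492)

`h4` : `v` of type 2, `q ∉ {0, v}`, `bf q v = 0`: a vector `x` of type 4 with `bf x v = 1`, `bf x q = 0` (counting).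
`two_ok`, `three_ok` : `two_elt`, `three_elt` without hypotheses.
-/

set_option autoImplicit false

namespace Cfsg.Agent.H658.TwoB

open Cfsg
open Cfsg.Agent.MonsterU.Lam2 (L2 IsType bf qf qf_add bf_add_left bf_zero_left bf_self card_L2 type_cases)
open Cfsg.Agent.BpSpor.MBigModel (MG zz)
open Cfsg.Agent.H820.Par (QQ eta)

/-- **elements of order 23** -/
theorem h23 : H23 := fun _ _ h4 h2 hb => exists_23 h4 h2 hb

/-- the number of solutions -/
theorem card_sol {v q : L2} (hv : v ≠ 0) (hq : q ≠ 0) (hqv : q ≠ v) :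
    2 ^ 22 ≤ Nat.card {x : L2 // bf x v = 1 ∧ bf x q = 0} := by
  obtain ⟨w, hw1, hw2⟩ := exists_perp hq hv (Ne.symm hqv)
  let f : L2 →+ ZMod 2 × ZMod 2 :=
    { toFun := fun x => (bf x v, bf x q)
      map_zero' := by rw [bf_zero_left, bf_zero_left]; rfl
      map_add' := fun x y => by rw [bf_add_left, bf_add_left]; rfl }
  have h1 : Nat.card f.ker * f.ker.index = 2 ^ 24 := by rw [AddSubgroup.card_mul_index, card_L2]
  have h2 : f.ker.index ≤ 4 := by
    rw [AddSubgroup.index_ker]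
    have h3 : Nat.card f.range ≤ Nat.card (ZMod 2 × ZMod 2) :=
      Nat.card_le_card_of_injective Subtype.val Subtype.val_injective
    rwa [Nat.card_prod, Nat.card_zmod] at h3
  have h3 : 2 ^ 22 ≤ Nat.card f.ker := by
    by_contra hlt
    push Not at hlt
    have h4 : Nat.card f.ker * f.ker.index < 2 ^ 22 * 4 := Nat.mul_lt_mul_of_lt_of_le hlt h2 (by norm_num)
    rw [h1] at h4
    norm_num at h4
  refine h3.trans (Nat.card_le_card_of_injective (fun x : f.ker => ⟨(x : L2) + w, ?_⟩) ?_)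
  · have h5 : (bf (x : L2) v, bf (x : L2) q) = (0, 0) := x.2
    have h6 := congrArg Prod.fst h5
    have h7 := congrArg Prod.snd h5
    simp only at h6 h7
    exact ⟨by rw [bf_add_left, h6, hw2, zero_add], by rw [bf_add_left, h7, hw1, zero_add]⟩
  · intro x y hxy
    exact Subtype.ext (add_right_cancel (congrArg Subtype.val hxy))

/-- **vectors of type 4** -/
theorem h4 : HFour := by
  intro v q hv hq hqv hqb
  by_contra hno
  push Not at hno
  have hv0 : v ≠ 0 := by
    rintro rfl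
    exact Cfsg.Agent.MonsterU.InvPair.not_zero_two hv
  have hvq : bf v q = 0 := by rw [Cfsg.Agent.MonsterU.Lam2.bf_comm]; exact hqb
  -- singular solutions are of type 2
  have key : ∀ x, bf x v = 1 → bf x q = 0 → qf x = 0 → IsType 2 x := by
    intro x h1 h2 h3
    rcases type_cases x with h | h | h | h
    · rw [h, bf_zero_left] at h1
      exact absurd h1 zero_ne_one
    · exact h
    · rw [Cfsg.Agent.H692.TwoB.qf_three h] at h3
      exact absurd h3 one_ne_zero
    · exact absurd h2 (hno x h h1)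
  have hfin2 : Finite {x : L2 // IsType 2 x} := inferInstance
  let F : {x : L2 // bf x v = 1 ∧ bf x q = 0} → {x : L2 // IsType 2 x} × Bool := fun x =>
    if h : qf (x : L2) = 0 then (⟨x, key x x.2.1 x.2.2 h⟩, true)
    else (⟨(x : L2) + v, key _ (by rw [bf_add_left, x.2.1, bf_self, add_zero])
      (by rw [bf_add_left, x.2.2, hvq, add_zero]) (by
        rw [qf_add, qf_two hv, x.2.1, add_zero]
        rcases z2_cases (qf (x : L2)) with h' | h'
        · exact absurd h' h
        · rw [h']; rfl)⟩, false)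
  have hF : Function.Injective F := by
    intro x y hxy
    by_cases hx : qf (x : L2) = 0 <;> by_cases hy : qf (y : L2) = 0
    · simp only [F, dif_pos hx, dif_pos hy, Prod.mk.injEq, Subtype.mk.injEq, and_true] at hxy
      exact Subtype.ext hxy
    · simp [F, dif_pos hx, dif_neg hy] at hxy
    · simp [F, dif_neg hx, dif_pos hy] at hxy
    · simp only [F, dif_neg hx, dif_neg hy, Prod.mk.injEq, Subtype.mk.injEq, and_true] at hxy
      exact Subtype.ext (add_right_cancel hxy)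
  have h1 := Nat.card_le_card_of_injective F hF
  rw [Nat.card_prod] at h1
  have h2 : Nat.card {x : L2 // IsType 2 x} ≤ 196560 := ncard_two
  have h3 := card_sol hv0 hq hqv
  have h5 : Nat.card Bool = 2 := by simp
  rw [h5] at h1
  have h6 : (2 : ℕ) ^ 22 ≤ 196560 * 2 := h3.trans (h1.trans (Nat.mul_le_mul_right 2 h2))
  norm_num at h6

/-- the pairs `(w, t)` -/
theorem cp {w t u : MG} (hw : IsConj zz w) (ht : LThreeB.Row.TA t) (hc : w * t = t * w)
    (hwt : LThreeB.Row.TA (w * t)) (hu : u ∈ QQ) (h2 : IsType 2 (eta u)) :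
    ∃ k : MG, k * w * k⁻¹ = zz ∧ k * t * k⁻¹ = u :=
  Cfsg.Agent.H705.TwoB.Pair.conj_pair hw ht hc hwt hu h2

end Cfsg.Agent.H658.TwoB
end

-- part: H570/TwoB/SuzSix
section
/-!
# Centralizers of the elements of order divisible by six in the Suzuki group (helper570)

`six` : `|C(g)| ≤ 6912` if `6 ∣ |g|`; `pair_le` : `|C(v) ∩ C(w)| ≤ 6912` for commuting `v` of order 2, `w` of odd order
divisible by three. From the class cover of helper123.
-/

set_option autoImplicit false
set_option maxRecDepth 1000000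
set_option exponentiation.threshold 5000

namespace Cfsg.Agent.H570.TwoB.SuzSix

open Cfsg Cfsg.Spor Cfsg.Agent.H123.Cls Cfsg.Agent.Lib.BitNet Cfsg.Agent.H123.Cls.SuzDat
open Cfsg.Agent.H763.Ore.SuzModel (A N A_conj card_A card_N N_le_A)
open Cfsg.Agent.OddHalf.Table.SuzRep (ψ ψ_val ψ_injective)
open Subgroup

universe u

/-- `r ^ j = 1` -/
noncomputable def chkI (j P : ℕ) : Bool := allN (fun p => Nat.beq (it 11 P j p) p) 1782

/-- the bound or the order -/
noncomputable def chkD (x : ℕ × ℕ × List ℕ) : Bool :=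
  or (Nat.ble (x.2.1 + 1) 6912) (or (chkI 4 x.1) (chkI 3 x.1))

theorem D_chk : D.all chkD = true := by
  unfold D
  decide +kernel

theorem pow_one_of_chk {j P : ℕ} (h : chkI j P = true) {r : Equiv.Perm (Fin 1782)}
    (hr : ∀ p : Fin 1782, (r p : ℕ) = lk 11 P p) : r ^ j = 1 := by
  ext p
  have h1 := (allN_iff _ _).1 h p p.2
  rw [it_eq hr] at h1
  exact Nat.eq_of_beq_eq_true h1

theorem six (g : Suz) (h2 : 2 ∣ orderOf g) (h3 : 3 ∣ orderOf g) :
    Nat.card ↥(centralizer ({g} : Set Suz)) ≤ 6912 := by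
  obtain ⟨x, hx, r, hrN, hr, b, hb, h⟩ := suz_cover (ψ g) ⟨g, rfl⟩
  have hc := List.all_eq_true.1 D_chk x hx
  have hpow : ∀ j : ℕ, chkI j x.1 = true → orderOf g ∣ j := by
    intro j hj
    apply orderOf_dvd_of_pow_eq_one
    apply ψ_injective
    rw [map_pow, h, map_one, conj_pow, pow_one_of_chk hj hr, mul_one, mul_inv_cancel]
  rw [chkD, Bool.or_eq_true, Bool.or_eq_true] at hc
  rcases hc with hc | hc | hc
  · have h5 : x.2.1 + 1 ≤ 6912 := Nat.le_of_ble_eq_true hc
    refine le_trans ?_ h5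
    obtain ⟨l, L, hbd⟩ := D_bd x hx
    have h6 := card_le_bound (n := 1782) (K := 11) (by norm_num) hr hbd
      (H := centralizer ({r} : Set (Equiv.Perm (Fin 1782))) ⊓ N) (inf_le_right.trans (N_le_A.trans H763.Ore.SuzTab.A_le_Aut))
      (fun σ hσ i => by
        have h7 := mem_centralizer_singleton_iff.1 hσ.1
        have h8 := congrArg (fun s : Equiv.Perm (Fin 1782) => s i) h7
        exact h8)
    refine le_trans ?_ h6
    have hbN : ∀ c : Suz, b⁻¹ * ψ c * b ∈ N := fun c => by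
      have h9 := A_conj (A.inv_mem hb) (⟨c, rfl⟩ : ψ c ∈ N)
      rwa [inv_inv] at h9
    refine Nat.card_le_card_of_injective (fun c : ↥(centralizer ({g} : Set Suz)) =>
      (⟨b⁻¹ * ψ c * b, mem_centralizer_singleton_iff.2 ?_, hbN c⟩ :
        ↥(centralizer ({r} : Set (Equiv.Perm (Fin 1782))) ⊓ N))) ?_
    · have h10 : ψ c * ψ g = ψ g * ψ c := by
        rw [← map_mul, mem_centralizer_singleton_iff.1 c.2, map_mul]
      have h11 : r = b⁻¹ * ψ g * b := by rw [h]; group
      rw [h11]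
      calc b⁻¹ * ψ c * b * (b⁻¹ * ψ g * b) = b⁻¹ * (ψ c * ψ g) * b := by group
        _ = b⁻¹ * (ψ g * ψ c) * b := by rw [h10]
        _ = _ := by group
    · intro c d hcd
      have h12 : b⁻¹ * ψ c * b = b⁻¹ * ψ d * b := congrArg Subtype.val hcd
      exact Subtype.ext (ψ_injective (mul_left_cancel (mul_right_cancel h12)))
  · have h5 := h3.trans (hpow 4 hc)
    norm_num at h5
  · have h5 := h2.trans (hpow 3 hc)
    norm_num at h5

/-- commuting elements `v` of order two, `w` of odd order divisible by three -/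
theorem pair_le {X : Type u} [Group X] (h : Spor.IsoSuz X) {v w : X} (hv : orderOf v = 2) (hw : 3 ∣ orderOf w)
    (hwo : ¬ 2 ∣ orderOf w) (hc : v * w = w * v) :
    Nat.card ↥(centralizer ({v} : Set X) ⊓ centralizer ({w} : Set X) : Subgroup X) ≤ 6912 := by
  obtain ⟨e⟩ := h
  have ho : orderOf (v * w) = 2 * orderOf w := by
    have h1 : (orderOf v).Coprime (orderOf w) := by
      rw [hv]
      exact (Nat.prime_two.coprime_iff_not_dvd).2 hwo
    rw [(show Commute v w from hc).orderOf_mul_eq_mul_orderOf_of_coprime h1, hv]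
  have h1 := six (e (v * w)) (by rw [MulEquiv.orderOf_eq, ho]; exact dvd_mul_right _ _)
    (by rw [MulEquiv.orderOf_eq, ho]; exact hw.mul_left _)
  refine le_trans ?_ h1
  have hf : Finite ↥(centralizer ({e (v * w)} : Set Suz)) := by
    have : Finite Suz := Nat.finite_of_card_ne_zero (by rw [SporadicRecognition.SuzOrder.card_Suz]; norm_num)
    infer_instance
  refine Nat.card_le_card_of_injective (fun c : ↥(centralizer ({v} : Set X) ⊓ centralizer ({w} : Set X) : Subgroup X) =>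
    (⟨e c, mem_centralizer_singleton_iff.2 ?_⟩ : ↥(centralizer ({e (v * w)} : Set Suz)))) ?_
  · have h2 := mem_centralizer_singleton_iff.1 c.2.1
    have h3 := mem_centralizer_singleton_iff.1 c.2.2
    rw [← map_mul, ← map_mul]
    congr 1
    calc (c : X) * (v * w) = ((c : X) * v) * w := by group
      _ = v * ((c : X) * w) := by rw [h2]; group
      _ = v * w * c := by rw [h3]; group
  · intro c d hcd
    exact Subtype.ext (e.injective (congrArg Subtype.val hcd))

end Cfsg.Agent.H570.TwoB.SuzSix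
end

-- part: H570/TwoB/RadNine
section
/-!
# An element `y` with `y ^ 3 = x` in the situation `Rad 3` (helper570)

`D = N C_D(z)`, `τ` an involution commuting with `z`, `y` commuting with `τ`, `y ^ 3 = x`:
`|C(τ) ∩ C(y)| ≤ |N ∩ C(τ)| · 2 m` if `m` bounds `|C_A(v) ∩ C_A(w)|` for `w` of order 3 or 9.
-/

set_option autoImplicit false
set_option linter.unusedSectionVars false

namespace Cfsg.Agent.H570.TwoB.RadNine

open Subgroup Cfsg Cfsg.Agent.BpSpor.M5

universe u v

variable {D : Type u} [Group D] [Finite D] {z x : D} {N : Subgroup D} {A : Type v} [Group A] [Finite A]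
  {f : ↥(centralizer ({z} : Set D)) →* A}

/-- `y ∉ N` -/
theorem notMem (h : Rad 3 z x N f) {y : D} (hy : y ^ 3 = x) : y ∉ N := by
  have hp : Fact (Nat.Prime 3) := ⟨Nat.prime_three⟩
  intro hyN
  obtain ⟨i, hi⟩ := h.inv (by norm_num) hyN
  have hx3 : x ^ 3 = 1 := by rw [← h.ox, pow_orderOf_eq_one]
  have h1 : z * x * z⁻¹ = x := by
    rw [h.xc z, mul_inv_cancel_right]
  have h2 : (z * y * z⁻¹) ^ 3 = x := by
    rw [conj_pow, hy, h1]
  rw [hi] at h2
  have hc : Commute y⁻¹ (x ^ i) := (h.xzc i y⁻¹)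
  rw [hc.mul_pow] at h2
  have h3 : (x ^ i) ^ 3 = 1 := by
    rw [← zpow_natCast, ← zpow_mul, mul_comm, zpow_mul, zpow_natCast, hx3, one_zpow]
  rw [h3, mul_one, inv_pow, hy] at h2
  have h4 : x * x = 1 := by
    nth_rewrite 1 [← h2]
    exact inv_mul_cancel x
  have h5 : x = 1 := by
    have h6 : x ^ 3 = x * x * x := by rw [pow_succ, pow_two]
    rw [h6, h4, one_mul] at hx3
    exact hx3
  have h7 := h.ox
  rw [h5, orderOf_one] at h7
  norm_num at h7

/-- the kernel of `f` -/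
theorem card_ker (h : Rad 3 z x N f) : Nat.card ↥f.ker ≤ 6 := by
  have hp : Fact (Nat.Prime 3) := ⟨Nat.prime_three⟩
  let F : ↥(zpowers x) × Bool → D := fun a => if a.2 then (a.1 : D) * z else a.1
  have h1 : Nat.card ↥(Set.range F) ≤ 6 := by
    refine (Finite.card_range_le F).trans ?_
    rw [Nat.card_prod, Nat.card_zpowers, h.ox]
    simp
  refine le_trans ?_ h1
  refine Nat.card_le_card_of_injective (fun c : ↥f.ker => (⟨((c : ↥(centralizer ({z} : Set D))) : D), ?_⟩ : ↥(Set.range F))) ?_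
  · obtain ⟨i, hi | hi⟩ := h.ker c (MonoidHom.mem_ker.1 c.2)
    · exact ⟨(⟨x ^ i, zpow_mem_zpowers x i⟩, false), by rw [hi]; simp [F]⟩
    · exact ⟨(⟨x ^ i, zpow_mem_zpowers x i⟩, true), by rw [hi]; simp [F]⟩
  · intro c d hcd
    have h0 : ((c : ↥(centralizer ({z} : Set D))) : D) = ((d : ↥(centralizer ({z} : Set D))) : D) :=
      congrArg (fun a : ↥(Set.range F) => (a : D)) hcd
    exact Subtype.ext (Subtype.ext h0)

/-- elements of `C(z)` commuting modulo `N` commute under `f` -/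
theorem f_comm [IsSimpleGroup A] (hAc : ¬ Group.IsSolvable A) (h : Rad 3 z x N f) (c d : ↥(centralizer ({z} : Set D)))
    (hcd : ∃ n ∈ N, (c : D) * d = n * (d * c)) : f c * f d = f d * f c := by
  obtain ⟨n, hn, h1⟩ := hcd
  have hc := mem_centralizer_singleton_iff.1 c.2
  have hd := mem_centralizer_singleton_iff.1 d.2
  have hnz : n * z = z * n := by
    have e : n = (c : D) * d * ((d : D) * c)⁻¹ := by rw [h1]; group
    have h2 : Commute ((c : D) * d * ((d : D) * c)⁻¹) z :=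
      ((show Commute (c : D) z from hc).mul_left (show Commute (d : D) z from hd)).mul_left
        ((show Commute (d : D) z from hd).mul_left (show Commute (c : D) z from hc)).inv_left
    rw [e]
    exact h2.eq
  obtain ⟨i, hi⟩ := mem_zpowers_iff.1 (h.cN n hn hnz)
  have fx : f ⟨n, mem_centralizer_singleton_iff.2 hnz⟩ = 1 :=
    h.f_central hAc fun g => Subtype.ext (by
      show (g : D) * n = n * g
      rw [← hi]
      exact h.xzc i g)
  have h3 : c * d = (⟨n, mem_centralizer_singleton_iff.2 hnz⟩ : ↥(centralizer ({z} : Set D))) * (d * c) :=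
    Subtype.ext h1
  rw [← map_mul, h3, map_mul, fx, one_mul, map_mul]

theorem rad_nine [IsSimpleGroup A] (hAc : ¬ Group.IsSolvable A) (h : Rad 3 z x N f) {τ y : D} (hτ : τ * τ = 1)
    (hτ1 : τ ≠ 1) (hτz : τ * z = z * τ) (hτne : τ ≠ z) (hy : y ^ 3 = x) (hyτ : y * τ = τ * y) {m : ℕ}
    (hm : ∀ v w : A, orderOf v = 2 → 3 ∣ orderOf w → ¬ 2 ∣ orderOf w → v * w = w * v →
      Nat.card ↥(centralizer ({v} : Set A) ⊓ centralizer ({w} : Set A) : Subgroup A) ≤ m) :
    Nat.card ↥(centralizer ({τ} : Set D) ⊓ centralizer ({y} : Set D) : Subgroup D) ≤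
      Nat.card ↥(N ⊓ centralizer ({τ} : Set D) : Subgroup D) * (2 * m) := by
  have hp : Fact (Nat.Prime 3) := ⟨Nat.prime_three⟩
  have hN := h.nN
  have hx3 : x ^ 3 = 1 := by rw [← h.ox, pow_orderOf_eq_one]
  have hy9 : y ^ 9 = 1 := by
    rw [show (9 : ℕ) = 3 * 3 from rfl, pow_mul, hy, hx3]
  obtain ⟨n0, hn0, c0, hc0, hyc⟩ := h.sup y
  let c0' : ↥(centralizer ({z} : Set D)) := ⟨c0, mem_centralizer_singleton_iff.2 hc0⟩
  let τ' : ↥(centralizer ({z} : Set D)) := ⟨τ, mem_centralizer_singleton_iff.2 hτz⟩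
  have hq : ∀ {a b : D}, (∃ n ∈ N, a = n * b) ↔ (QuotientGroup.mk a : D ⧸ N) = QuotientGroup.mk b := by
    intro a b
    constructor
    · rintro ⟨n, hn, rfl⟩
      rw [QuotientGroup.mk_mul, (QuotientGroup.eq_one_iff n).2 hn, one_mul]
    · intro hab
      refine ⟨a * b⁻¹, ?_, by group⟩
      rw [← QuotientGroup.eq_one_iff, QuotientGroup.mk_mul, hab, QuotientGroup.mk_inv, mul_inv_cancel]
  have hqy : (QuotientGroup.mk y : D ⧸ N) = QuotientGroup.mk c0 := hq.1 ⟨n0, hn0, hyc⟩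
  have hcomm : ∀ (a b : D), a * b = b * a → ∀ c d : D, (QuotientGroup.mk a : D ⧸ N) = QuotientGroup.mk c →
      (QuotientGroup.mk b : D ⧸ N) = QuotientGroup.mk d → ∃ n ∈ N, c * d = n * (d * c) := by
    intro a b hab c d hc hd
    rw [hq, QuotientGroup.mk_mul, QuotientGroup.mk_mul, ← hc, ← hd, ← QuotientGroup.mk_mul, hab,
      QuotientGroup.mk_mul]
  -- `f τ` is an involution
  have hv : orderOf (f τ') = 2 := by
    refine orderOf_eq_prime ?_ fun h1 => ?_
    · rw [pow_two, ← map_mul]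
      have h1 : τ' * τ' = 1 := Subtype.ext hτ
      rw [h1, map_one]
    · obtain ⟨i, hi | hi⟩ := h.ker _ h1
      · have h2 : τ = x ^ i := hi
        have h3 := h.sq_one (by norm_num) (i := i) (by rw [← h2, hτ])
        rw [h3] at h2
        exact hτ1 h2
      · have h2 : τ = x ^ i * z := hi
        have h4 : x ^ i * x ^ i = 1 := by
          have h5 := h.xzc i z
          calc x ^ i * x ^ i = x ^ i * x ^ i * (z * z) := by rw [h.zz, mul_one]
            _ = x ^ i * (x ^ i * z) * z := by group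
            _ = x ^ i * (z * x ^ i) * z := by rw [h5]
            _ = (x ^ i * z) * (x ^ i * z) := by group
            _ = 1 := by rw [← h2, hτ]
        rw [h.sq_one (by norm_num) h4, one_mul] at h2
        exact hτne h2
  -- `f c0` has order 3 or 9
  have hw9 : (f c0') ^ 9 = 1 := by
    have h1 : c0 ^ 9 ∈ N := by
      rw [← QuotientGroup.eq_one_iff, QuotientGroup.mk_pow, ← hqy, ← QuotientGroup.mk_pow, hy9, QuotientGroup.mk_one]
    have h2 : c0 ^ 9 * z = z * c0 ^ 9 := ((show Commute c0 z from hc0).pow_left 9).eq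
    obtain ⟨i, hi⟩ := mem_zpowers_iff.1 (h.cN _ h1 h2)
    rw [← map_pow]
    exact h.f_central hAc fun g => Subtype.ext (by
      show (g : D) * c0 ^ 9 = c0 ^ 9 * g
      rw [← hi]
      exact h.xzc i g)
  have hw1 : f c0' ≠ 1 := by
    intro h1
    have hyN := notMem h hy
    apply hyN
    obtain ⟨i, hi | hi⟩ := h.ker _ h1
    · have h2 : c0 = x ^ i := hi
      rw [hyc, h2]
      exact N.mul_mem hn0 (N.zpow_mem h.xN i)
    · have h2 : c0 = x ^ i * z := hi
      have h3 : (QuotientGroup.mk y : D ⧸ N) = QuotientGroup.mk z := by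
        rw [hqy, h2, QuotientGroup.mk_mul, (QuotientGroup.eq_one_iff (x ^ i)).2 (N.zpow_mem h.xN i), one_mul]
      rw [← QuotientGroup.eq_one_iff]
      have h4 : (QuotientGroup.mk y : D ⧸ N) * QuotientGroup.mk y = 1 := by
        rw [h3, ← QuotientGroup.mk_mul, h.zz, QuotientGroup.mk_one]
      have h5 : (QuotientGroup.mk y : D ⧸ N) ^ 9 = 1 := by
        rw [← QuotientGroup.mk_pow, hy9, QuotientGroup.mk_one]
      rw [show (9 : ℕ) = 2 * 4 + 1 from rfl, pow_succ, pow_mul, pow_two, h4, one_pow, one_mul] at h5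
      exact h5
  have hwd : orderOf (f c0') ∣ 3 ^ 2 := orderOf_dvd_of_pow_eq_one hw9
  obtain ⟨k, hk, hwk⟩ := (Nat.dvd_prime_pow Nat.prime_three).1 hwd
  have hk0 : k ≠ 0 := by
    rintro rfl
    rw [pow_zero, orderOf_eq_one_iff] at hwk
    exact hw1 hwk
  have hw3 : 3 ∣ orderOf (f c0') := by rw [hwk]; exact dvd_pow_self 3 hk0
  have hw2 : ¬ 2 ∣ orderOf (f c0') := by
    rw [hwk]
    intro h1
    have h2 := Nat.prime_two.dvd_of_dvd_pow h1
    norm_num at h2
  have hvw : f τ' * f c0' = f c0' * f τ' :=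
    f_comm hAc h τ' c0' (hcomm τ y hyτ.symm τ c0 rfl hqy)
  have hmm := hm _ _ hv hw3 hw2 hvw
  -- the count
  set Y : Subgroup D := centralizer ({τ} : Set D) ⊓ centralizer ({y} : Set D) with hY
  let S : Subgroup ↥(centralizer ({z} : Set D)) :=
    (Y.map (QuotientGroup.mk' N)).comap ((QuotientGroup.mk' N).comp (centralizer ({z} : Set D)).subtype)
  have hSf : S.map f ≤ centralizer ({f τ'} : Set A) ⊓ centralizer ({f c0'} : Set A) := by
    rintro _ ⟨c, ⟨g, hg, hgc⟩, rfl⟩
    have hgc' : (QuotientGroup.mk g : D ⧸ N) = QuotientGroup.mk (c : D) := hgc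
    refine ⟨mem_centralizer_singleton_iff.2 ?_, mem_centralizer_singleton_iff.2 ?_⟩
    · exact f_comm hAc h c τ' (hcomm g τ (mem_centralizer_singleton_iff.1 hg.1) c τ hgc' rfl)
    · exact f_comm hAc h c c0' (hcomm g y (mem_centralizer_singleton_iff.1 hg.2) c c0 hgc' hqy)
  have hS1 : Nat.card ↥S ≤ 6 * m := by
    have h1 : Nat.card ↥S = Nat.card ↥(S.map f) * Nat.card ↥(f.subgroupMap S).ker := by
      rw [← (f.subgroupMap S).ker.index_mul_card, index_ker, MonoidHom.range_eq_top.2 (f.subgroupMap_surjective S),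
        Nat.card_congr topEquiv.toEquiv]
    have h2 : Nat.card ↥(f.subgroupMap S).ker ≤ 6 := by
      refine le_trans ?_ (card_ker h)
      refine Nat.card_le_card_of_injective (fun c : ↥(f.subgroupMap S).ker => (⟨(c : ↥S), ?_⟩ : ↥f.ker)) ?_
      · exact MonoidHom.mem_ker.2 (congrArg Subtype.val (MonoidHom.mem_ker.1 c.2))
      · intro c d hcd
        exact Subtype.ext (Subtype.ext (congrArg (fun a : ↥f.ker => (a : ↥(centralizer ({z} : Set D)))) hcd))
    have h3 : Nat.card ↥(S.map f) ≤ m := (Nat.card_le_card_of_injective _ (inclusion_injective hSf)).trans hmm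
    rw [h1, mul_comm 6 m]
    exact Nat.mul_le_mul h3 h2
  -- `|S| = 3 |q Y|`
  have hqs : Nat.card ↥S = 3 * Nat.card ↥(Y.map (QuotientGroup.mk' N)) := by
    set! α : ↥(centralizer ({z} : Set D)) →* D ⧸ N :=
      (QuotientGroup.mk' N).comp (centralizer ({z} : Set D)).subtype with hα
    have hαs : Function.Surjective α := by
      intro a
      obtain ⟨g, rfl⟩ := QuotientGroup.mk'_surjective N a
      obtain ⟨n, hn, c, hc, rfl⟩ := h.sup g
      refine ⟨⟨c, mem_centralizer_singleton_iff.2 hc⟩, ?_⟩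
      exact (hq.1 ⟨n, hn, rfl⟩).symm
    have hαk : Nat.card ↥α.ker = 3 := by
      have e : α.ker.map (centralizer ({z} : Set D)).subtype = zpowers x := by
        ext g
        constructor
        · rintro ⟨c, hc, rfl⟩
          exact h.cN _ ((QuotientGroup.eq_one_iff _).1 (MonoidHom.mem_ker.1 hc)) (mem_centralizer_singleton_iff.1 c.2)
        · intro hg
          obtain ⟨i, rfl⟩ := mem_zpowers_iff.1 hg
          refine ⟨⟨x ^ i, mem_centralizer_singleton_iff.2 (h.xzc i z).symm⟩, ?_, rfl⟩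
          exact MonoidHom.mem_ker.2 ((QuotientGroup.eq_one_iff _).2 (N.zpow_mem h.xN i))
      rw [← card_map_of_injective (centralizer ({z} : Set D)).subtype_injective, e, Nat.card_zpowers, h.ox]
    have h1 : Nat.card ↥S = Nat.card ↥α.ker * Nat.card ↥(Y.map (QuotientGroup.mk' N)) := by
      have h2 : S.map α = Y.map (QuotientGroup.mk' N) := map_comap_eq_self_of_surjective hαs _
      have h3 : α.ker ≤ S := fun c hc => by
        have h30 : α c ∈ Y.map (QuotientGroup.mk' N) := by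
          rw [MonoidHom.mem_ker.1 hc]
          exact one_mem _
        exact h30
      have h4 : Nat.card ↥S = Nat.card ↥(S.map α) * Nat.card ↥(α.subgroupMap S).ker := by
        rw [← (α.subgroupMap S).ker.index_mul_card, index_ker, MonoidHom.range_eq_top.2 (α.subgroupMap_surjective S),
          Nat.card_congr topEquiv.toEquiv]
      have h5 : Nat.card ↥(α.subgroupMap S).ker = Nat.card ↥α.ker := by
        refine Nat.card_congr ⟨fun c => ⟨(c : ↥S), MonoidHom.mem_ker.2 (congrArg Subtype.val (MonoidHom.mem_ker.1 c.2))⟩,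
          fun c => ⟨⟨c, h3 c.2⟩, MonoidHom.mem_ker.2 (Subtype.ext (MonoidHom.mem_ker.1 c.2))⟩, fun _ => rfl, fun _ => rfl⟩
      rw [h4, h5, h2, mul_comm]
    rw [h1, hαk]
  have h7 : Nat.card ↥(Y.map (QuotientGroup.mk' N)) ≤ 2 * m := by omega
  -- `|Y| ≤ |N ∩ C(τ)| |q Y|`
  have h8 : Nat.card ↥Y = Nat.card ↥(Y.map (QuotientGroup.mk' N)) * Nat.card ↥((QuotientGroup.mk' N).subgroupMap Y).ker := by
    rw [← ((QuotientGroup.mk' N).subgroupMap Y).ker.index_mul_card, index_ker,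
      MonoidHom.range_eq_top.2 ((QuotientGroup.mk' N).subgroupMap_surjective Y), Nat.card_congr topEquiv.toEquiv]
  have h9 : Nat.card ↥((QuotientGroup.mk' N).subgroupMap Y).ker ≤ Nat.card ↥(N ⊓ centralizer ({τ} : Set D) : Subgroup D) := by
    refine Nat.card_le_card_of_injective (fun c : ↥((QuotientGroup.mk' N).subgroupMap Y).ker =>
      (⟨((c : ↥Y) : D), ?_, (c : ↥Y).2.1⟩ : ↥(N ⊓ centralizer ({τ} : Set D) : Subgroup D))) ?_
    · exact (QuotientGroup.eq_one_iff _).1 (congrArg Subtype.val (MonoidHom.mem_ker.1 c.2))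
    · intro c d hcd
      have h0 : ((c : ↥Y) : D) = ((d : ↥Y) : D) :=
        congrArg (fun a : ↥(N ⊓ centralizer ({τ} : Set D) : Subgroup D) => (a : D)) hcd
      exact Subtype.ext (Subtype.ext h0)
  rw [h8, mul_comm]
  exact Nat.mul_le_mul h9 h7

end Cfsg.Agent.H570.TwoB.RadNine
end

-- part: H570/TwoB/Nine
section
/-!
# The elements of order nine of the Baby Monster (helper570)

* `mon_nine` : `y` in the Monster with `y ^ 3 = x` of order 3, commuting with `t` of class 2A: `|C(y) ∩ C(t)| ≤ 2448880128`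
  or `FiType t x`;
* `nine_le` : **`|C_B(y)| ≤ 1224440064`** for `y` of order nine in the Baby Monster.

The reduction is that of helper494 (`H494/TwoB/Nine.lean`); the bound uses `|C_Suz(v) ∩ C_Suz(w)| ≤ 6912`.
-/

set_option autoImplicit false
set_option maxRecDepth 100000

namespace Cfsg.Agent.H570.TwoB.Nine

open Cfsg Cfsg.Agent Cfsg.Agent.MonsterX Cfsg.Agent.MonsterX.InstData Cfsg.Agent.MonsterX.MainPack Cfsg.Agent.MonsterU
open Cfsg.Agent.MonsterP Cfsg.Agent.MonsterN Cfsg.Agent.LThree Cfsg.Agent.LThreeMB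
open Cfsg.Agent.MonsterX.MainBasic Cfsg.Agent.MonsterX.MainSimple Cfsg.Agent.MonsterX.Model
open Cfsg.Agent.LThreeB (XT mem_XT centXT centXT' conjXT)
open Subgroup (centralizer mem_centralizer_singleton_iff center card_dvd_of_le zpowers)
open Cfsg.Spor (Co1)
open Cfsg.Agent.H979.BAdj Cfsg.Agent.H979.CovLift Cfsg.Agent.H979.OddB
open Cfsg.Agent.H630.NH Cfsg.Agent.H241.NH Cfsg.Agent.H630.Baby
open Cfsg.Agent.H844.Ore
open Cfsg.Agent.BpSpor.M5

universe u v

section abs

/-- **The situation `Rad` over `Suz`.** -/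
theorem rad_le {D : Type u} [Group D] [Finite D] {z x : D} {N : Subgroup D} {A : Type v} [Group A] [Finite A]
    [IsSimpleGroup A] {f : ↥(centralizer ({z} : Set D)) →* A} (hns : ¬ Group.IsSolvable A) (hN : Rad 3 z x N f)
    (hNd : Nat.card ↥N ∣ 3 ^ 13) (hS : Spor.IsoSuz A) {t : D} (htt : t * t = 1) (ht1 : t ≠ 1)
    (htz : ∀ d : D, d * t * d⁻¹ ≠ z) (h14 : ¬ 3 ^ 14 ∣ Nat.card ↥(centralizer ({t} : Set D))) {y : D} (hy : y ^ 3 = x)
    (hyt : y * t = t * y) :
    Nat.card ↥(centralizer ({t} : Set D) ⊓ centralizer ({y} : Set D) : Subgroup D) ≤ 2448880128 := by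
  have hp : Fact (Nat.Prime 3) := ⟨Nat.prime_three⟩
  obtain ⟨d, hd⟩ := BThree.exists_conj_mem (centralizer ({z} : Set D)) (BThree.index_odd hN) htt
  obtain ⟨τ, hτ⟩ : ∃ τ, d * t * d⁻¹ = τ := ⟨_, rfl⟩
  rw [hτ] at hd
  have hτz : τ * z = z * τ := mem_centralizer_singleton_iff.1 hd
  have hττ : τ * τ = 1 := by
    rw [← hτ]
    calc d * t * d⁻¹ * (d * t * d⁻¹) = d * (t * t) * d⁻¹ := by group
      _ = 1 := by rw [htt]; group
  have hτ1 : τ ≠ 1 := by
    rw [← hτ]
    intro h1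
    rw [conj_eq_one_iff] at h1
    exact ht1 h1
  have hτne : τ ≠ z := by
    rw [← hτ]
    exact htz d
  have hcc : Nat.card ↥(centralizer ({t} : Set D)) = Nat.card ↥(centralizer ({τ} : Set D)) :=
    MThirteen.card_cent_conj (isConj_iff.2 ⟨d, hτ⟩)
  rw [hcc] at h14
  -- the conjugate of `y`
  obtain ⟨w, hw⟩ : ∃ w, w = d * y * d⁻¹ := ⟨_, rfl⟩
  have hw3 : w ^ 3 = x := by
    rw [hw, conj_pow, hy, hN.xc d, mul_inv_cancel_right]
  have hwτ : w * τ = τ * w := by
    rw [hw, ← hτ]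
    calc d * y * d⁻¹ * (d * t * d⁻¹) = d * (y * t) * d⁻¹ := by group
      _ = d * (t * y) * d⁻¹ := by rw [hyt]
      _ = _ := by group
  have hle : Nat.card ↥(centralizer ({t} : Set D) ⊓ centralizer ({y} : Set D) : Subgroup D) ≤
      Nat.card ↥(centralizer ({τ} : Set D) ⊓ centralizer ({w} : Set D) : Subgroup D) := by
    have key : ∀ g a b : D, d * a * d⁻¹ = b → g * a = a * g → (d * g * d⁻¹) * b = b * (d * g * d⁻¹) := by
      intro g a b hab hg
      rw [← hab]
      calc d * g * d⁻¹ * (d * a * d⁻¹) = d * (g * a) * d⁻¹ := by group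
        _ = d * (a * g) * d⁻¹ := by rw [hg]
        _ = _ := by group
    refine Nat.card_le_card_of_injective
      (fun g : ↥(centralizer ({t} : Set D) ⊓ centralizer ({y} : Set D) : Subgroup D) =>
        (⟨d * g * d⁻¹, mem_centralizer_singleton_iff.2 (key g t τ hτ (mem_centralizer_singleton_iff.1 g.2.1)),
          mem_centralizer_singleton_iff.2 (key g y w hw.symm (mem_centralizer_singleton_iff.1 g.2.2))⟩ :
          ↥(centralizer ({τ} : Set D) ⊓ centralizer ({w} : Set D) : Subgroup D))) ?_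
    intro a b hab
    have h1 : d * (a : D) * d⁻¹ = d * (b : D) * d⁻¹ := congrArg
      (fun a : ↥(centralizer ({τ} : Set D) ⊓ centralizer ({w} : Set D) : Subgroup D) => (a : D)) hab
    exact Subtype.ext (mul_left_cancel (mul_right_cancel h1))
  refine hle.trans ?_
  have h1 := RadNine.rad_nine hns hN hττ hτ1 hτz hτne hw3 hwτ (m := 6912)
    (fun v w hv hw hwo hc => SuzSix.pair_le hS hv hw hwo hc)
  refine h1.trans ?_
  -- the order of `N ∩ C(τ)`
  obtain ⟨m, hm1, hm2, hm3⟩ := BAbs.card_cent hns hN hττ hτz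
  rw [hm1] at h14
  obtain ⟨v, hv⟩ : ∃ v, f ⟨τ, mem_centralizer_singleton_iff.2 hτz⟩ = v := ⟨_, rfl⟩
  rw [hv] at hm2 hm3
  have hvv : v * v = 1 := by
    rw [← hv, ← map_mul]
    have h1 : (⟨τ, mem_centralizer_singleton_iff.2 hτz⟩ : ↥(centralizer ({z} : Set D))) *
        ⟨τ, mem_centralizer_singleton_iff.2 hτz⟩ = 1 := Subtype.ext hττ
    rw [h1, map_one]
  have hv1 : v ≠ 1 := by
    intro h1
    rw [← hv] at h1
    obtain ⟨i, hi | hi⟩ := hN.ker _ h1
    · have h2 : τ = x ^ i := hi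
      have h3 := hN.sq_one (by norm_num) (i := i) (by rw [← h2, hττ])
      rw [h3] at h2
      exact hτ1 h2
    · have h2 : τ = x ^ i * z := hi
      have h4 : x ^ i * x ^ i = 1 := by
        have h5 := hN.xzc i z
        calc x ^ i * x ^ i = x ^ i * x ^ i * (z * z) := by rw [hN.zz, mul_one]
          _ = x ^ i * (x ^ i * z) * z := by group
          _ = x ^ i * (z * x ^ i) * z := by rw [h5]
          _ = (x ^ i * z) * (x ^ i * z) := by group
          _ = 1 := by rw [← h2, hττ]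
      rw [hN.sq_one (by norm_num) h4, one_mul] at h2
      exact hτne h2
  obtain ⟨k, hk⟩ : ∃ k, Nat.card ↥(N ⊓ centralizer ({τ} : Set D) : Subgroup D) = k := ⟨_, rfl⟩
  have hkd : k ∣ 3 ^ 13 := hk ▸ (card_dvd_of_le inf_le_left).trans hNd
  rw [hk] at h14 ⊢
  obtain ⟨j, -, hj⟩ := (Nat.dvd_prime_pow Nat.prime_three).1 hkd
  rw [hj] at h14 ⊢
  have hj11 : j ≤ 11 := by
    have h7 : 3 ^ 2 ∣ 2 * m := by
      rcases BThree.suz_card hS v hvv hv1 with h5 | h5
      · rw [h5] at hm3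
        exact (by norm_num : 3 ^ 2 ∣ 3317760).trans hm3
      · rw [h5] at hm3
        exact (by norm_num : 3 ^ 2 ∣ 161280).trans hm3
    by_contra hcon
    apply h14
    refine Dvd.dvd.trans ?_ (mul_dvd_mul (pow_dvd_pow 3 (show 12 ≤ j by omega)) h7)
    norm_num
  calc 3 ^ j * (2 * 6912) ≤ 3 ^ 11 * (2 * 6912) := Nat.mul_le_mul_right _ (Nat.pow_le_pow_right (by norm_num) hj11)
    _ = 2448880128 := by norm_num

end abs

/-! ### The Monster -/

/-- **Fixed rank 0.** -/
theorem zero_nine {x : centralizer ({KDone.K.z} : Set Mon)} (hx : orderOf x = 3)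
    (hfr : fr (KChart.pi LThreeB.Row.cent x) = 1) {t : Mon} (hto : orderOf t = 2)
    (htz : ∀ g : Mon, g * t * g⁻¹ ≠ KDone.K.z) (htx : t * (x : Mon) = x * t)
    (h14 : ¬ 3 ^ 14 ∣ Nat.card ↥(XT (x : Mon) t)) {y : Mon} (hy : y ^ 3 = x) (hyt : y * t = t * y) :
    Nat.card ↥(XT y t) ≤ 2448880128 := by
  have hfin : Finite Mon := MThirteen.Row.finite
  have h := chart
  have hp : Fact (Nat.Prime 3) := ⟨Nat.prime_three⟩
  have htr := MThirteen.Row.trNe
  have hS : Spor.IsoSuz (XX (KChart.pi LThreeB.Row.cent x)) := CoOneFin.coOne.suz _ (orderOf_pi h hx) hfr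
  have hcS : Nat.card (XX (KChart.pi LThreeB.Row.cent x)) = 448345497600 := by
    obtain ⟨e⟩ := hS
    rw [Nat.card_congr e.toEquiv]
    exact SporadicRecognition.SuzOrder.card_Suz
  have hs : IsSimpleGroup (XX (KChart.pi LThreeB.Row.cent x)) := by
    obtain ⟨e⟩ := hS
    exact (MulEquiv.isSimpleGroup_congr e).2 Cfsg.Agent.S1694.result.1
  have hns : ¬ Group.IsSolvable (XX (KChart.pi LThreeB.Row.cent x)) :=
    H199.NSmMon.not_solvable hs hcS (by norm_num) (by norm_num)
  have hfS : Finite (XX (KChart.pi LThreeB.Row.cent x)) := Nat.finite_of_card_ne_zero (by rw [hcS]; norm_num)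
  obtain ⟨N, hN⟩ := BpSpor.M5.exists_rad h (by norm_num) hx hfr (fun d hd hc => isolated h htr hx hfr d hd hc)
    hs (by rw [hcS]; decide)
  -- the order of `N`
  have hNd : Nat.card ↥N ∣ 3 ^ 13 := by
    obtain ⟨m, hm, hcm⟩ := hN.card_N_mul hns
    have h1 := H199.AbMon.three_zero' hx hfr
    have h2 : Nat.card ↥N * (448345497600 * m) ∣ 3 ^ 13 * (448345497600 * 2) := by
      rw [hcS] at hcm
      rw [← hcm]
      exact h1
    have h3 : Nat.card ↥N ∣ 3 ^ 13 * 2 := by
      refine Nat.dvd_of_mul_dvd_mul_right (show 0 < 448345497600 by norm_num) ?_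
      refine (Dvd.intro m (by ring)).trans (h2.trans (by norm_num))
    refine Nat.Coprime.dvd_of_dvd_mul_right ?_ h3
    exact Nat.coprime_two_right.2 hN.oN
  have hXT : Nat.card ↥(XT (x : Mon) t) = Nat.card ↥(centralizer
      ({⟨t, mem_centralizer_singleton_iff.2 htx⟩} : Set ↥(centralizer ({(x : Mon)} : Set Mon)))) :=
    (Nat.card_congr (centXT' (⟨t, mem_centralizer_singleton_iff.2 htx⟩ : ↥(centralizer ({(x : Mon)} : Set Mon)))).toEquiv).symm
  rw [hXT] at h14
  have hyx : y * (x : Mon) = x * y := by rw [← hy]; exact (Commute.refl y).pow_right 3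
  have h1 := rad_le hns hN hNd hS (t := ⟨t, mem_centralizer_singleton_iff.2 htx⟩) (Subtype.ext (by
      show t * t = 1
      rw [← pow_two, ← hto, pow_orderOf_eq_one])) (fun h1 => by
      have h2 : t = 1 := congrArg Subtype.val h1
      rw [h2, orderOf_one] at hto
      omega) (fun d h1 => htz (d : Mon) (congrArg Subtype.val h1)) h14
    (y := ⟨y, mem_centralizer_singleton_iff.2 hyx⟩) (Subtype.ext hy) (Subtype.ext hyt)
  refine le_trans ?_ h1
  refine Nat.card_le_card_of_injective (fun c : ↥(XT y t) =>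
    (⟨⟨(c : Mon), mem_centralizer_singleton_iff.2 ?_⟩, mem_centralizer_singleton_iff.2 (Subtype.ext (mem_XT.1 c.2).2),
      mem_centralizer_singleton_iff.2 (Subtype.ext (mem_XT.1 c.2).1)⟩ : ↥((centralizer
      ({⟨t, mem_centralizer_singleton_iff.2 htx⟩} : Set ↥(centralizer ({(x : Mon)} : Set Mon)))) ⊓ (centralizer
      ({⟨y, mem_centralizer_singleton_iff.2 hyx⟩} : Set ↥(centralizer ({(x : Mon)} : Set Mon)))) :
        Subgroup ↥(centralizer ({(x : Mon)} : Set Mon))))) ?_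
  · rw [← hy]
    exact ((show Commute (c : Mon) y from (mem_XT.1 c.2).1).pow_right 3).eq
  · intro a b hab
    have h2 : (a : Mon) = b := congrArg (fun g : ↥((centralizer
      ({⟨t, mem_centralizer_singleton_iff.2 htx⟩} : Set ↥(centralizer ({(x : Mon)} : Set Mon)))) ⊓ (centralizer
      ({⟨y, mem_centralizer_singleton_iff.2 hyx⟩} : Set ↥(centralizer ({(x : Mon)} : Set Mon)))) :
        Subgroup ↥(centralizer ({(x : Mon)} : Set Mon))) => ((g : ↥(centralizer ({(x : Mon)} : Set Mon))) : Mon)) (by exact hab)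
    exact Subtype.ext h2

/-- **`x = y ^ 3` of order 3 in the Monster, `y` commuting with `t` of class 2A.** -/
theorem mon_nine {x t y : Mon} (hx : orderOf x = 3) (ht : LThreeB.Row.TA t) (hxt : x * t = t * x)
    (h14 : ¬ 3 ^ 14 ∣ Nat.card ↥(XT x t)) (hy : y ^ 3 = x) (hyt : y * t = t * y) :
    Nat.card ↥(XT y t) ≤ 2448880128 ∨ FiType t x := by
  have hfin : Finite Mon := MThirteen.Row.finite
  have hsim : IsSimpleGroup Mon := MThirteen.Row.simple
  have h := chart
  have I := CoOneFin.coOne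
  have hto := MThirteen.Row.ta_order ht
  have htt : t * t = 1 := by rw [← pow_two, ← hto, pow_orderOf_eq_one]
  have ht1 : t ≠ 1 := by
    rintro rfl
    rw [orderOf_one] at hto
    omega
  have htz : ¬ IsConj KDone.K.z t := by
    intro h1
    obtain ⟨c, hc⟩ := isConj_iff.1 h1
    exact MThirteen.Row.ta_ne ht c⁻¹ (by rw [← hc]; group)
  obtain ⟨g, hg, -⟩ := LThreeM.FiRow.exists_z_in (x := x) (v := t) (by rw [← hx, pow_orderOf_eq_one]) ht hxt
  have h1 : (g⁻¹ * x * g⁻¹⁻¹) * KDone.K.z = KDone.K.z * (g⁻¹ * x * g⁻¹⁻¹) := by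
    calc (g⁻¹ * x * g⁻¹⁻¹) * KDone.K.z = g⁻¹ * (x * (g * KDone.K.z * g⁻¹)) * g := by group
      _ = g⁻¹ * ((g * KDone.K.z * g⁻¹) * x) * g := by rw [hg]
      _ = KDone.K.z * (g⁻¹ * x * g⁻¹⁻¹) := by group
  obtain ⟨x', hyx⟩ : ∃ y : centralizer ({KDone.K.z} : Set Mon), (y : Mon) = g⁻¹ * x * g⁻¹⁻¹ :=
    ⟨⟨g⁻¹ * x * g⁻¹⁻¹, mem_centralizer_singleton_iff.2 h1⟩, rfl⟩
  have hx' : orderOf x' = 3 := by
    rw [← Subgroup.orderOf_coe, hyx, ← hx]
    exact MulEquiv.orderOf_eq (MulAut.conj g⁻¹) x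
  have hx'' : orderOf (x' : Mon) = 3 := by rw [Subgroup.orderOf_coe, hx']
  have hcj : ∀ k : Mon, (k * y * k⁻¹) ^ 3 = k * x * k⁻¹ := fun k => by rw [conj_pow, hy]
  have hcj2 : ∀ k : Mon, (k * y * k⁻¹) * (k * t * k⁻¹) = (k * t * k⁻¹) * (k * y * k⁻¹) :=
    fun k => LThreeB.conj_comm' hyt
  set! t' : Mon := g⁻¹ * t * g⁻¹⁻¹ with ht'
  have hto' : orderOf t' = 2 := by
    rw [← hto]
    exact MulEquiv.orderOf_eq (MulAut.conj g⁻¹) t
  have htz' : ∀ g' : Mon, g' * t' * g'⁻¹ ≠ KDone.K.z := by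
    intro g' hg'
    refine MThirteen.Row.ta_ne ht (g' * g⁻¹) ?_
    rw [← hg', ht']
    group
  have hyt' : (x' : Mon) * t' = t' * x' := by
    rw [hyx]
    exact LThreeB.conj_comm' hxt
  have hXT := card_XT_conj g⁻¹ x t
  rw [← hyx] at hXT
  rw [← hXT] at h14
  rcases I.ranks (KChart.pi LThreeB.Row.cent x') (orderOf_pi h hx') with h2 | h2 | h2 | h2
  · left
    rw [← card_XT_conj g⁻¹ y t]
    exact zero_nine hx' h2 hto' htz' hyt'.symm h14 (y := g⁻¹ * y * g⁻¹⁻¹) (by rw [hyx]; exact hcj g⁻¹) (hcj2 g⁻¹)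
  · left
    obtain ⟨x₀, u, g₀, hx₀, hfr₀, huz, hux, hne, hg₀⟩ := MThirteen.Row.hasPair
    obtain ⟨k, hk⟩ := conj_six h MThirteen.Row.trNe I.ranks I.six
      (fun x hx h2 => ⟨(good_of_inputs h I hx h2 : Good.{0} _).simple, (good_of_inputs h I hx h2 : Good.{0} _).nc⟩)
      hx₀ hfr₀ huz hux hne hg₀ hx' h2
    have h5 := card_XT_conj k (x' : Mon) t'
    rw [hk] at h5
    rw [← h5] at h14
    have e1 : ∀ a : Mon, (k * g⁻¹) * a * (k * g⁻¹)⁻¹ = k * (g⁻¹ * a * g⁻¹⁻¹) * k⁻¹ := fun a => by group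
    have ex : (x₀ : Mon) = (k * g⁻¹) * x * (k * g⁻¹)⁻¹ := by rw [← hk, e1, hyx]
    have et : k * t' * k⁻¹ = (k * g⁻¹) * t * (k * g⁻¹)⁻¹ := by rw [e1, ht']
    rw [← card_XT_conj (k * g⁻¹) y t, ← et]
    refine zero_nine (t := k * t' * k⁻¹) hx₀ hfr₀ (by rw [← hto']; exact MulEquiv.orderOf_eq (MulAut.conj k) t')
      (fun g' hg' => htz' (g' * k) (by rw [← hg']; group)) (by rw [← hk]; exact LThreeB.conj_comm' hyt'.symm) h14
      (y := (k * g⁻¹) * y * (k * g⁻¹)⁻¹) (by rw [ex]; exact hcj _) ?_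
    rw [et]
    exact hcj2 _
  · left
    obtain ⟨e⟩ := LThreeB.isoTh_of_inputs h I hx' h2
    obtain ⟨τ, hτ, hd⟩ := card_XT_dvd Nat.prime_three (by norm_num) hx'' hto' hyt'
    rw [LThreeB.card_centralizer_congr e, card_inv_th (by rw [MulEquiv.orderOf_eq, hτ]), hXT] at hd
    have hle : XT y t ≤ XT x t := by
      intro c hc
      obtain ⟨h3, h4⟩ := mem_XT.1 hc
      refine mem_XT.2 ⟨?_, h4⟩
      rw [← hy]
      exact ((show Commute c y from h3).pow_right 3).eq
    exact (Nat.le_of_dvd (by norm_num) ((card_dvd_of_le hle).trans hd)).trans (by norm_num)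
  · right
    exact BThree.fi_type hx' h2 (k := g) (by rw [hyx]; group) htt ht1 htz hxt.symm

/-! ### The Baby Monster -/

/-- `|C_{C(t)}(a)| = 2 |C_X(a)|` for `a` of odd order -/
theorem card_cent_odd {M : Type u} [Group M] [Finite M] {t : M} {X : Type v} [Group X]
    (h2 : Nat.card ↥(center ↥(centralizer ({t} : Set M))) = 2)
    (e : ↥(centralizer ({t} : Set M)) ⧸ center ↥(centralizer ({t} : Set M)) ≃* X) {r : ℕ}
    (hr : Odd r) {x : ↥(centralizer ({t} : Set M))} (hxr : x ^ r = 1) :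
    Nat.card ↥(centralizer ({x} : Set ↥(centralizer ({t} : Set M)))) =
      Nat.card ↥(centralizer ({e (QuotientGroup.mk x)} : Set X)) * 2 := by
  have hXf : Finite X := Finite.of_equiv _ e.toEquiv
  let E : Subgroup M := centralizer ({t} : Set M)
  let Z : Subgroup ↥(centralizer ({t} : Set M)) := center ↥(centralizer ({t} : Set M))
  let y : X := e (QuotientGroup.mk x)
  let CE : Subgroup ↥E := centralizer ({x} : Set ↥E)
  have hmem : ∀ c : CE, e (QuotientGroup.mk (c : ↥E)) ∈ centralizer ({y} : Set X) := by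
    intro c
    rw [mem_centralizer_singleton_iff]
    show e _ * e _ = e _ * e _
    rw [← map_mul, ← map_mul]
    congr 1
    exact congrArg (QuotientGroup.mk (s := Z)) (mem_centralizer_singleton_iff.1 c.2)
  let g : CE →* ↥(centralizer ({y} : Set X)) :=
    ((e.toMonoidHom.comp (QuotientGroup.mk' Z)).comp CE.subtype).codRestrict _ hmem
  have hg : Function.Surjective g := by
    rintro ⟨w, hw⟩
    obtain ⟨c, hc⟩ := QuotientGroup.mk_surjective (e.symm w)
    have h3 : x * c = c * x := by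
      refine lift_comm le_rfl h2 hr hxr ?_
      rw [hc]
      apply e.injective
      rw [map_mul, map_mul, e.apply_symm_apply]
      exact (mem_centralizer_singleton_iff.1 hw).symm
    refine ⟨⟨c, mem_centralizer_singleton_iff.2 h3.symm⟩, Subtype.ext ?_⟩
    show e (QuotientGroup.mk c) = w
    rw [hc, e.apply_symm_apply]
  have hgk : Nat.card g.ker = 2 := by
    rw [← h2]
    refine Nat.card_congr
      { toFun := fun k => ⟨((k : CE) : ↥E), ?_⟩
        invFun := fun k => ⟨⟨k, mem_centralizer_singleton_iff.2 (Subgroup.mem_center_iff.1 k.2 x).symm⟩, ?_⟩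
        left_inv := fun k => rfl
        right_inv := fun k => rfl }
    · have h3 : e (QuotientGroup.mk ((k : CE) : ↥E)) = 1 := congrArg Subtype.val (MonoidHom.mem_ker.1 k.2)
      rw [map_eq_one_iff e e.injective] at h3
      exact (QuotientGroup.eq_one_iff _).1 h3
    · rw [MonoidHom.mem_ker]
      apply Subtype.ext
      show e (QuotientGroup.mk (k : ↥E)) = 1
      rw [(QuotientGroup.eq_one_iff _).2 k.2, map_one]
  show Nat.card CE = Nat.card ↥(centralizer ({y} : Set X)) * 2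
  rw [Subgroup.card_eq_card_quotient_mul_card_subgroup g.ker, hgk,
    Nat.card_congr (QuotientGroup.quotientKerEquivOfSurjective g hg).toEquiv]

/-- **Elements of order nine.** -/
theorem nine_le {L : Type u} [Group L] (h : Spor.IsoB L) {y : L} (hy : orderOf y = 9) :
    Nat.card ↥(centralizer ({y} : Set L)) ≤ 1224440064 := by
  have hfM : Finite Mon := MThirteen.Row.finite
  have hN := NotCT.Orders.b h
  have hfin : Finite L := Nat.finite_of_card_ne_zero (by rw [hN]; norm_num)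
  obtain ⟨t, ht, h2, ⟨e⟩⟩ := exists_cover h
  have hto := MThirteen.Row.ta_order ht
  have ht1 : t ≠ 1 := by
    rintro rfl
    rw [orderOf_one] at hto
    omega
  have htt : t * t = 1 := by rw [← pow_two, ← hto, pow_orderOf_eq_one]
  -- a lift of order nine
  obtain ⟨g, hg⟩ := QuotientGroup.mk_surjective (e.symm y)
  have hge : e (QuotientGroup.mk g) = y := by
    show e (QuotientGroup.mk g) = y
    simp only [hg, e.apply_symm_apply]
  have hy9 : y ^ 9 = 1 := by rw [← hy, pow_orderOf_eq_one]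
  have hsq : ∀ c : ↥(centralizer ({t} : Set Mon)), e (QuotientGroup.mk c) = 1 → c ^ 2 = 1 := by
    intro c hc
    rw [map_eq_one_iff e e.injective, QuotientGroup.eq_one_iff, H480.Ore.center_cases ht1 h2] at hc
    apply Subtype.ext
    show (c : Mon) ^ 2 = 1
    rcases hc with hc | hc
    · rw [hc, one_pow]
    · rw [hc, pow_two, htt]
  obtain ⟨a, ha⟩ : ∃ a, a = g ^ 10 := ⟨_, rfl⟩
  have ha9 : a ^ 9 = 1 := by
    have h3 : e (QuotientGroup.mk (g ^ 9)) = 1 := by simp only [QuotientGroup.mk_pow, map_pow, hge, hy9]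
    have h4 := hsq _ h3
    simp only [ha, ← pow_mul g 10 9, show 10 * 9 = 9 * 2 * 5 by norm_num, pow_mul g (9 * 2) 5, pow_mul g 9 2, h4, one_pow 5]
  have hae : e (QuotientGroup.mk a) = y := by
    (rewrite [ha]; simp only [QuotientGroup.mk_pow]; rewrite [map_pow, hge, show 10 = 9 + 1 by norm_num, pow_succ, hy9, one_mul]; with_reducible rfl)
  obtain ⟨x, hx⟩ : ∃ x, x = a ^ 3 := ⟨_, rfl⟩
  have hxe : e (QuotientGroup.mk x) = y ^ 3 := by simp only [hx, QuotientGroup.mk_pow, map_pow, hae]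
  have hx3 : x ^ 3 = 1 := by rw [hx, ← pow_mul, ha9]
  have hy3 : y ^ 3 ≠ 1 := by
    intro h3
    have h4 := orderOf_dvd_of_pow_eq_one h3
    rw [hy] at h4
    norm_num at h4
  have hxo : orderOf x = 3 := by
    have : Fact (Nat.Prime 3) := ⟨Nat.prime_three⟩
    refine orderOf_eq_prime hx3 ?_
    rintro h3
    exact hy3 (by simp only [← hxe, h3, QuotientGroup.mk_one, map_one])
  have hnF : ¬ FiType t (x : Mon) := fun hF => H480.Ore.no_cube ht h2 e hxo hF y hxe.symm
  -- in the Monster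
  have k3 : (a : Mon) ^ 3 = x := by rw [hx, Subgroup.coe_pow]
  have k4 : orderOf (x : Mon) = 3 := by rw [Subgroup.orderOf_coe, hxo]
  have h14 : ¬ 3 ^ 14 ∣ Nat.card ↥(XT (x : Mon) t) := by
    have h3 := card_cent h2 e Nat.prime_three (by norm_num) hxo
    simp only [← Nat.card_congr (centXT x).toEquiv] at h3
    rw [h3]
    intro h4
    have h5 : 3 ^ 14 ∣ Nat.card ↥(centralizer ({e (QuotientGroup.mk x)} : Set L)) :=
      Nat.Coprime.dvd_of_dvd_mul_right (by norm_num) h4
    have h6 := h5.trans (Subgroup.card_subgroup_dvd_card _)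
    rw [hN] at h6
    norm_num at h6
  have h5 := (mon_nine k4 ht (mem_centralizer_singleton_iff.1 x.2) h14 k3
    (mem_centralizer_singleton_iff.1 a.2)).resolve_right hnF
  have h6 := card_cent_odd h2 e (by decide : Odd 9) ha9
  simp only [← Nat.card_congr (centXT a).toEquiv, hae] at h6
  have h7 : Nat.card ↥(centralizer ({y} : Set L)) * 2 ≤ 2448880128 := h6 ▸ h5
  exact Nat.le_of_mul_le_mul_right (h7.trans (by norm_num)) (show 0 < 2 by norm_num)

end Cfsg.Agent.H570.TwoB.Nine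
end

-- part: H844/TwoB/Six
section
/-!
# The vectors of type two fixed by an element of order three of fixed rank six (helper844)

* `odd_two` : `s` of order 3 in `Co1` with `fr s = 2 ^ 6`: the number of fixed vectors of type 2 is odd (it is 27).
-/

set_option autoImplicit false
set_option maxRecDepth 100000

namespace Cfsg.Agent.H844.TwoB.Six

open Cfsg Cfsg.Agent.SporadicA Cfsg.Agent.SporadicStructure.Co0Matrix
open Cfsg.Agent.CoOneType.CoEval
open Cfsg.Agent.MonsterU.Lam2 Cfsg.Agent.LThreeMB.Fix Cfsg.Agent.LThreeCo1.Ranks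
open Cfsg.Spor (Co1)
open Cfsg.Agent.LThreeCo1.Class (c6)
open Cfsg.Agent.LThreeMB

theorem len6 : v6.length = 6 := rfl

/-- the index -/
def J (i : Fin 6) : Fin v6.length := Fin.cast len6.symm i

/-- the combination of the six vectors -/
def cb (a b c d e f : ℤ) : List ℤ :=
  addL (mulL a (v6.get (J 0)).1) (addL (mulL b (v6.get (J 1)).1) (addL (mulL c (v6.get (J 2)).1)
    (addL (mulL d (v6.get (J 3)).1) (addL (mulL e (v6.get (J 4)).1) (mulL f (v6.get (J 5)).1)))))

/-- the combination in the lattice -/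
noncomputable def cu (a b c d e f : ℤ) : leechLattice :=
  a • el (v6.get (J 0)).1 + (b • el (v6.get (J 1)).1 + (c • el (v6.get (J 2)).1 +
    (d • el (v6.get (J 3)).1 + (e • el (v6.get (J 4)).1 + f • el (v6.get (J 5)).1))))

/-- the combination in `L2` -/
noncomputable def cv (a b c d e f : ZMod 2) : L2 :=
  a • vv v6 (J 0) + (b • vv v6 (J 1) + (c • vv v6 (J 2) + (d • vv v6 (J 3) + (e • vv v6 (J 4) + f • vv v6 (J 5)))))

theorem lat6 : latB v6 = true := by decide +kernel
theorem fix6 : fixB Q6 v6 = true := by decide +kernel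
theorem dual6 : dualB v6 = true := by decide +kernel
theorem span6 : spanB Q6 v6 = true := by exact Cfsg.Agent.LThreeMB.SpanQ.span3 (by decide +kernel)

theorem l6 (j : Fin v6.length) : leechB (v6.get j).1 = true := (lat_spec lat6 (List.get_mem v6 j)).1

theorem cu_coe (a b c d e f : ℤ) : ((cu a b c d e f : leechLattice) : GolayPt → ℤ) = vec (cb a b c d e f) := by
  rw [cb, vec_addL, vec_addL, vec_addL, vec_addL, vec_addL, vec_mulL, vec_mulL, vec_mulL, vec_mulL, vec_mulL, vec_mulL,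
    ← el_coe (l6 (J 0)), ← el_coe (l6 (J 1)), ← el_coe (l6 (J 2)), ← el_coe (l6 (J 3)), ← el_coe (l6 (J 4)), ← el_coe (l6 (J 5))]
  rfl

theorem cl_cu (a b c d e f : ℤ) : cl (cu a b c d e f) = cv a b c d e f := by
  simp only [cu, cv, map_add, cl_zsmul]
  rfl

theorem norm_cu (a b c d e f : ℤ) : sqNorm ((cu a b c d e f : leechLattice) : GolayPt → ℤ) =
    dotL (cb a b c d e f) (cb a b c d e f) := by
  rw [cu_coe, Cfsg.Agent.Leech.Basic.sqNorm_eq_dotInt, dotInt_vec]
  simp only [cb, length_addL, mulL, List.length_map, length_of_leechB (l6 _)]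
  norm_num

/-- integer coefficients of the 27 vectors -/
def tab : List (ℤ × ℤ × ℤ × ℤ × ℤ × ℤ) := [
  (0, 0, 0, 0, 0, -1), (0, 0, 0, 0, -1, 0), (0, 0, 0, -1, 0, 0), (0, 0, -1, 0, 0, 0), (0, 0, -1, 0, 0, 1),
  (0, 0, -1, 0, 1, 0), (0, 0, -1, 1, 0, 0), (0, -1, 0, 0, 0, 0), (0, -1, 0, 0, 0, 1), (0, -1, 0, 0, 1, 0),
  (0, -1, 0, 1, 0, 0), (0, -1, -1, 0, 1, 1), (0, -1, -1, 1, 0, 1), (0, -1, -1, 1, 1, 0), (0, -1, -1, 1, 1, 1),
  (-1, 0, 0, 0, 0, 0), (-1, 2, 2, -1, -1, -1), (-1, 0, 1, 0, 0, 0), (-1, 2, 1, -1, -1, -1), (-1, 1, 0, 0, 0, 0),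
  (-1, 1, 2, -1, -1, -1), (-1, 1, 1, 0, 0, -1), (-1, 1, 1, 0, -1, 0), (-1, 1, 1, 0, -1, -1), (-1, 1, 1, -1, 0, 0),
  (-1, 1, 1, -1, 0, -1), (-1, 1, 1, -1, -1, 0)]

/-- the quadratic form in coordinates -/
def qq (a b c d e f : ZMod 2) : ZMod 2 := a * d + a * e + a * f + b * c + d * e + d * f + e * f

/-- nonzero singular -/
def P (x : Fin 6 → ZMod 2) : Prop := x ≠ 0 ∧ qq (x 0) (x 1) (x 2) (x 3) (x 4) (x 5) = 0

instance decP : DecidablePred P := fun x => by unfold P; infer_instance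

theorem card_P : Nat.card {x // P x} = 27 := by
  rw [Nat.card_eq_fintype_card]
  decide +kernel

theorem tab_norm : (tab.all fun p => decide (dotL (cb p.1 p.2.1 p.2.2.1 p.2.2.2.1 p.2.2.2.2.1 p.2.2.2.2.2)
    (cb p.1 p.2.1 p.2.2.1 p.2.2.2.1 p.2.2.2.2.1 p.2.2.2.2.2) = 32)) = true := by decide +kernel

theorem q_check : ∀ a b c d e f : ZMod 2, dotL (cb a.val b.val c.val d.val e.val f.val)
    (cb a.val b.val c.val d.val e.val f.val) % 32 = 16 * ((qq a b c d e f).val : ℤ) := by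
  decide +kernel

/-- the six coefficients of `p` modulo 2 -/
def md (a b c d e f : ZMod 2) (p : ℤ × ℤ × ℤ × ℤ × ℤ × ℤ) : Bool :=
  decide ((p.1 : ZMod 2) = a) && decide ((p.2.1 : ZMod 2) = b) && decide ((p.2.2.1 : ZMod 2) = c) &&
    decide ((p.2.2.2.1 : ZMod 2) = d) && decide ((p.2.2.2.2.1 : ZMod 2) = e) && decide ((p.2.2.2.2.2 : ZMod 2) = f)

theorem tab_check : ∀ a b c d e f : ZMod 2, (decide (qq a b c d e f ≠ 0) || (decide (a = 0) && decide (b = 0) &&
    decide (c = 0) && decide (d = 0) && decide (e = 0) && decide (f = 0)) || tab.any (md a b c d e f)) = true := by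
  decide +kernel

theorem bf_smul_left (a : ZMod 2) (y w : L2) : bf (a • y) w = a * bf y w := by
  have : a = 0 ∨ a = 1 := by revert a; decide
  rcases this with rfl | rfl
  · rw [zero_smul, zero_mul, bf_zero_left]
  · rw [one_smul, one_mul]

theorem J_inj {i j : Fin 6} : J i = J j ↔ i = j := by
  rw [J, J, Fin.ext_iff, Fin.ext_iff, Fin.val_cast, Fin.val_cast]

theorem bf_cv (x : Fin 6 → ZMod 2) (i : Fin 6) :
    bf (cv (x 0) (x 1) (x 2) (x 3) (x 4) (x 5)) (ww v6 (J i)) = x i := by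
  simp only [cv, bf_add_left, bf_smul_left, bf_vw lat6 dual6, J_inj]
  (revert i; simp only [_root_.Fin.forall_fin_succ, Fin.isValue, _root_.mul_ite, _root_.mul_one, _root_.MulZeroClass.mul_zero, ↓reduceIte, _root_.one_ne_zero, Fin.reduceEq, _root_.add_zero, _root_.Fin.succ_zero_eq_one, _root_.zero_ne_one, _root_.zero_add, _root_.Fin.succ_one_eq_two, Fin.reduceSucc, _root_.IsEmpty.forall_iff, _root_.and_self])

theorem eq_cv {x : L2} (hx : c6 • x = x) : x = cv (bf x (ww v6 (J 0))) (bf x (ww v6 (J 1))) (bf x (ww v6 (J 2)))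
    (bf x (ww v6 (J 3))) (bf x (ww v6 (J 4))) (bf x (ww v6 (J 5))) := by
  have h := eq_sum rep6 lat6 span6 hx
  have h2 : ∀ F : Fin v6.length → L2, ∑ j, F j = F (J 0) + (F (J 1) + (F (J 2) + (F (J 3) + (F (J 4) + F (J 5))))) := by
    intro F
    have e := Equiv.sum_comp (finCongr len6.symm) F
    rw [← e, Fin.sum_univ_six]
    simp only [add_assoc]
    rfl
  rw [h2] at h
  exact h

theorem smul_cv (a b c d e f : ZMod 2) : c6 • cv a b c d e f = cv a b c d e f := by
  have h1 : ∀ (a : ZMod 2) (y : L2), c6 • (a • y) = a • (c6 • y) := by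
    intro a y
    have : a = 0 ∨ a = 1 := by revert a; decide
    rcases this with rfl | rfl
    · rw [zero_smul, zero_smul, smul_zero]
    · rw [one_smul, one_smul]
  simp only [cv, smul_add, h1, smul_vv rep6 lat6 fix6]

theorem cast_val : ∀ a : ZMod 2, (((a.val : ℕ) : ℤ) : ZMod 2) = a := by decide

theorem qf_cv (a b c d e f : ZMod 2) : qf (cv a b c d e f) = 0 ↔ qq a b c d e f = 0 := by
  have h1 : cv a b c d e f = cl (cu a.val b.val c.val d.val e.val f.val) := by
    rw [cl_cu]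
    simp only [cast_val]
  rw [h1, qf_cl_eq_zero, norm_cu]
  rw [Int.dvd_iff_emod_eq_zero, q_check a b c d e f]
  generalize qq a b c d e f = q
  revert q
  decide

theorem two_cv {a b c d e f : ZMod 2} (h : qq a b c d e f = 0) (h0 : cv a b c d e f ≠ 0) :
    IsType 2 (cv a b c d e f) := by
  have hc := tab_check a b c d e f
  rw [Bool.or_eq_true, Bool.or_eq_true, decide_eq_true_eq] at hc
  rcases hc with (hc | hc) | hc
  · exact absurd h hc
  · exfalso
    simp only [Bool.and_eq_true, decide_eq_true_eq] at hc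
    obtain ⟨⟨⟨⟨⟨rfl, rfl⟩, rfl⟩, rfl⟩, rfl⟩, rfl⟩ := hc
    apply h0
    simp [cv]
  obtain ⟨p, hp, hm⟩ := List.any_eq_true.1 hc
  simp only [md, Bool.and_eq_true, decide_eq_true_eq] at hm
  obtain ⟨⟨⟨⟨⟨h1, h2⟩, h3⟩, h4⟩, h5⟩, h6⟩ := hm
  refine ⟨cu p.1 p.2.1 p.2.2.1 p.2.2.2.1 p.2.2.2.2.1 p.2.2.2.2.2, ?_, ?_⟩
  · rw [norm_cu]
    have := List.all_eq_true.1 tab_norm p hp
    rw [of_decide_eq_true this]
    norm_num
  · rw [cl_cu, h1, h2, h3, h4, h5, h6]

/-- the nonzero singular fixed vectors of `s` -/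
def Sg (s : Co1) := {v : L2 // s • v = v ∧ v ≠ 0 ∧ qf v = 0}

theorem card_c6 : Nat.card (Sg (QuotientGroup.mk c6)) = 27 := by
  rw [← card_P]
  refine Nat.card_congr
    { toFun := fun v => ⟨fun i => bf v.1 (ww v6 (J i)), ?_, ?_⟩
      invFun := fun x => ⟨cv (x.1 0) (x.1 1) (x.1 2) (x.1 3) (x.1 4) (x.1 5), smul_cv _ _ _ _ _ _, ?_,
        (qf_cv _ _ _ _ _ _).2 x.2.2⟩
      left_inv := fun v => Subtype.ext (eq_cv v.2.1).symm
      right_inv := fun x => Subtype.ext (funext fun i => bf_cv x.1 i) }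
  · intro h0
    apply v.2.2.1
    rw [eq_cv v.2.1]
    have h1 : ∀ i, bf v.1 (ww v6 (J i)) = 0 := fun i => congrFun h0 i
    simp [h1, cv]
  · rw [← qf_cv, ← eq_cv v.2.1]
    exact v.2.2.2
  · intro h0
    apply x.2.1
    funext i
    rw [← bf_cv x.1 i, h0, bf_zero_left]
    rfl

theorem two_c6 {v : L2} (h : (QuotientGroup.mk c6 : Co1) • v = v) (h0 : v ≠ 0) (hq : qf v = 0) : IsType 2 v := by
  have h1 := eq_cv h
  rw [h1] at h0 hq ⊢
  exact two_cv ((qf_cv _ _ _ _ _ _).1 hq) h0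

variable {s : Co1} (hs : orderOf s = 3) (hfr : fr s = 2 ^ 6)

include hs hfr

/-- **The number of singular vectors.** -/
theorem card_Sg : Nat.card (Sg s) = 27 := by
  obtain ⟨g, hg⟩ := conj_rep uniq6 hs hfr
  rw [← card_c6, ← hg]
  refine Nat.card_congr
    { toFun := fun v => ⟨g • v.1, ?_, ?_, ?_⟩
      invFun := fun v => ⟨g⁻¹ • v.1, ?_, ?_, ?_⟩
      left_inv := fun v => Subtype.ext (inv_smul_smul g _)
      right_inv := fun v => Subtype.ext (smul_inv_smul g _) }
  · rw [mul_smul, mul_smul, inv_smul_smul, v.2.1]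
  · intro h0
    apply v.2.2.1
    rwa [smul_eq_zero_iff_eq] at h0
  · rw [qf_smul1]
    exact v.2.2.2
  · have h1 := v.2.1
    rw [mul_smul, mul_smul] at h1
    rw [eq_inv_smul_iff]
    exact h1
  · intro h0
    apply v.2.2.1
    rwa [smul_eq_zero_iff_eq] at h0
  · rw [qf_smul1]
    exact v.2.2.2

/-- **Singular fixed vectors have type two.** -/
theorem two_of {v : L2} (h : s • v = v) (h0 : v ≠ 0) (hq : qf v = 0) : IsType 2 v := by
  obtain ⟨g, hg⟩ := conj_rep uniq6 hs hfr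
  have h1 : IsType 2 (g • v) := by
    refine two_c6 ?_ ?_ ?_
    · rw [← hg, mul_smul, mul_smul, inv_smul_smul, h]
    · rwa [Ne, smul_eq_zero_iff_eq]
    · rw [qf_smul1, hq]
  have h2 := (h1.smul1 g⁻¹ :)
  rwa [inv_smul_smul] at h2

end Cfsg.Agent.H844.TwoB.Six
end

-- part: H844/TwoB/P8
section
/-!
# Pairs `(x, t)`, `x` of order three, `t` of class 2A, commuting, in the Monster (helper844)

* `mon_two` : `x` commutes with an involution `w` conjugate to `z` with `w t` of class 2A, or `|C(x) ∩ C(t)| ≤ 2 · 1058158080`,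
  or `FiType t x` (rows 2.B of S2491 and S2492, row B of S4173 and S2464).
-/

set_option autoImplicit false
set_option maxRecDepth 100000
set_option linter.unusedSectionVars false

namespace Cfsg.Agent.H844.TwoB.P8

open Cfsg Cfsg.Agent Cfsg.Agent.MonsterX Cfsg.Agent.MonsterX.InstData Cfsg.Agent.MonsterX.MainPack Cfsg.Agent.MonsterU
open Cfsg.Agent.MonsterP Cfsg.Agent.MonsterN Cfsg.Agent.LThree Cfsg.Agent.LThreeMB
open Cfsg.Agent.MonsterX.MainBasic Cfsg.Agent.MonsterX.MainSimple Cfsg.Agent.MonsterX.Model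
open Cfsg.Agent.LThreeB (XT mem_XT centXT centXT' conjXT)
open Subgroup (centralizer mem_centralizer_singleton_iff center card_dvd_of_le zpowers)
open Cfsg.Spor (Co1)
open Cfsg.Agent.H979.BAdj Cfsg.Agent.H979.CovLift Cfsg.Agent.H979.OddB
open Cfsg.Agent.H630.NH Cfsg.Agent.H241.NH Cfsg.Agent.H630.Baby
open Cfsg.Agent.BpSpor.M5 Cfsg.Agent.H844.Ore Cfsg.Agent.H844.Ore.BThree Cfsg.Agent.H844.Ore.BReal
open Cfsg.Agent.H573.U33.Conj (rad_zero ns_zero suz_zero rad_ne rad_card exists_nf mon_conj lf seven_of_th seven_of_fi)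
open Cfsg.Agent.MonsterU.Lam2 (IsType qf L2)
open Cfsg.Agent.H844.TwoB.Six (Sg card_Sg two_of)

universe u v

/-! ### The 3-part of the centralizer of `t` -/

theorem ta_three {t : Mon} (ht : LThreeB.Row.TA t) : ¬ 3 ^ 14 ∣ Nat.card ↥(centralizer ({t} : Set Mon)) := by
  have hfin : Finite Mon := MThirteen.Row.finite
  have hB : Spor.IsoB Spor.BabyMonster := ⟨MulEquiv.refl _⟩
  have hN := NotCT.Orders.b hB
  have hfB : Finite Spor.BabyMonster := Nat.finite_of_card_ne_zero (by rw [hN]; norm_num)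
  obtain ⟨t₀, ht₀, h2, ⟨e⟩⟩ := exists_cover hB
  have h1 : Nat.card ↥(centralizer ({t} : Set Mon)) = Nat.card ↥(centralizer ({t₀} : Set Mon)) :=
    MThirteen.card_cent_conj (IsConj.trans (IsConj.symm ht) ht₀)
  rw [h1, Subgroup.card_eq_card_quotient_mul_card_subgroup (center ↥(centralizer ({t₀} : Set Mon))),
    Nat.card_congr e.toEquiv, hN, h2]
  norm_num

theorem ta_basic {t : Mon} (ht : LThreeB.Row.TA t) : t * t = 1 ∧ t ≠ 1 ∧ t ≠ KDone.K.z := by
  have hto := MThirteen.Row.ta_order ht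
  refine ⟨by rw [← pow_two, ← hto, pow_orderOf_eq_one], ?_, ?_⟩
  · rintro rfl
    rw [orderOf_one] at hto
    omega
  · intro h1
    exact MThirteen.Row.ta_ne ht 1 (by rw [h1]; group)

theorem XT_three {x t : Mon} (ht : LThreeB.Row.TA t) : ¬ 3 ^ 14 ∣ Nat.card ↥(XT x t) := by
  have hfin : Finite Mon := MThirteen.Row.finite
  exact fun h => ta_three ht (h.trans (card_dvd_of_le inf_le_right))

/-! ### Elements of class 2A in the extraspecial group -/

theorem ta_of_two {e : Mon} (he : e ∈ KDone.K.ι.range) (h2 : IsType 2 (KChart.eta KDone.lft e)) :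
    LThreeB.Row.TA e := by
  obtain ⟨p, rfl⟩ := he
  rw [KChart.eta_ι] at h2
  exact BpSpor.MBigModel.ta_iota h2

/-- **The elements of class 2A of `C_Q(x)`**, fixed rank 6. -/
theorem six_elt {x : centralizer ({KDone.K.z} : Set Mon)} (hx : orderOf x = 3)
    (hfr : fr (KChart.pi LThreeB.Row.cent x) = 2 ^ 6) {P : Subgroup Mon} (hP : IsPGroup 2 ↥P)
    (hPz : P ≤ centralizer ({KDone.K.z} : Set Mon)) (hPx : P ≤ centralizer ({(x : Mon)} : Set Mon)) :
    ∃ e : Mon, LThreeB.Row.TA e ∧ LThreeB.Row.TA (KDone.K.z * e) ∧ KDone.K.z * e = e * KDone.K.z ∧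
      e * x = x * e ∧ Nat.card ↥P ∣ 2 * Nat.card ↥(XT (x : Mon) e) := by
  have hfin : Finite Mon := MThirteen.Row.finite
  have h := chart
  have h2 : Fact (Nat.Prime 2) := ⟨Nat.prime_two⟩
  set! s := KChart.pi LThreeB.Row.cent x with hs; rewrite [← hs] at hfr
  have hso : orderOf s = 3 := orderOf_pi h hx
  let π : ↥P → Co1 := fun g => KChart.pi LThreeB.Row.cent ⟨g, hPz g.2⟩
  have hπ1 : π 1 = 1 := map_one _
  have hπm : ∀ a b : ↥P, π (a * b) = π a * π b := fun a b => by
    rw [← map_mul]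
    rfl
  have hπs : ∀ a : ↥P, π a * s = s * π a := by
    intro a
    (rewrite [hs]; (conv => enter [@2]; rw [← map_mul]); (conv => enter [@3]; rw [← map_mul]))
    congr 1
    exact Subtype.ext (mem_centralizer_singleton_iff.1 (hPx a.2))
  let A : MulAction ↥P (Sg s) :=
    { smul := fun g v => ⟨π g • v.1, by
          rw [← mul_smul, ← hπs, mul_smul, v.2.1], by
          rw [Ne, smul_eq_zero_iff_eq]
          exact v.2.2.1, by
          rw [MonsterU.Lam2.qf_smul1]
          exact v.2.2.2⟩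
      one_smul := fun v => Subtype.ext (by
        show π 1 • v.1 = v.1
        rw [hπ1, one_smul])
      mul_smul := fun a b v => Subtype.ext (by
        show π (a * b) • v.1 = π a • (π b • v.1)
        rw [hπm, mul_smul]) }
  have hSf : Finite (Sg s) := Nat.finite_of_card_ne_zero (by rw [card_Sg hso hfr]; norm_num)
  obtain ⟨v, hv⟩ := hP.nonempty_fixed_point_of_prime_not_dvd_card (Sg s) (by rw [card_Sg hso hfr]; norm_num)
  have hv' : ∀ g : ↥P, π g • v.1 = v.1 := fun g => congrArg Subtype.val (MulAction.mem_fixedPoints.1 hv g)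
  have hv2 : IsType 2 v.1 := two_of hso hfr v.2.1 v.2.2.1 v.2.2.2
  obtain ⟨e, he, hev⟩ := h.eta_surj v.1
  have hze : KDone.K.z * e = e * KDone.K.z := (h.large.comm_z e he).symm
  have hzz : KDone.K.z * KDone.K.z = 1 := h.large.z_sq
  have key : ∀ c : ↥(centralizer ({KDone.K.z} : Set Mon)), KChart.pi LThreeB.Row.cent c • v.1 = v.1 →
      (c : Mon) * e * (c : Mon)⁻¹ = e ∨ (c : Mon) * e * (c : Mon)⁻¹ = e * KDone.K.z := by
    intro c hc
    refine (h.eta_eq (h.large.conj_mem c (mem_centralizer_singleton_iff.1 c.2) e he) he).1 ?_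
    rw [h.eta_conj c e he, hev, hc]
  have hxe : (x : Mon) * e * (x : Mon)⁻¹ = e := by
    rcases key x v.2.1 with h3 | h3
    · exact h3
    · exfalso
      have hxz : (x : Mon) * KDone.K.z = KDone.K.z * x := mem_centralizer_singleton_iff.1 x.2
      have hxz' : (x : Mon) * KDone.K.z * (x : Mon)⁻¹ = KDone.K.z := by rw [hxz, mul_inv_cancel_right]
      have hx3 : (x : Mon) * x * x = 1 := by
        have h5 : x ^ 3 = 1 := by rw [← hx, pow_orderOf_eq_one]
        have h6 : (x : Mon) ^ 3 = 1 := by exact_mod_cast congrArg Subtype.val h5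
        rw [← h6, pow_succ, pow_two]
      have h31 : (x : Mon) * (x * e * (x : Mon)⁻¹) * (x : Mon)⁻¹ = e := by
        rw [h3]
        calc (x : Mon) * (e * KDone.K.z) * (x : Mon)⁻¹ = (x * e * (x : Mon)⁻¹) * (x * KDone.K.z * (x : Mon)⁻¹) := by group
          _ = e * (KDone.K.z * KDone.K.z) := by rw [h3, hxz', mul_assoc]
          _ = e := by rw [hzz, mul_one]
      have h4 : (x : Mon) * x * x * e * ((x : Mon) * x * x)⁻¹ = e * KDone.K.z := by
        calc (x : Mon) * x * x * e * ((x : Mon) * x * x)⁻¹ =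
              (x : Mon) * (x * (x * e * (x : Mon)⁻¹) * (x : Mon)⁻¹) * (x : Mon)⁻¹ := by group
          _ = e * KDone.K.z := by rw [h31, h3]
      rw [hx3, inv_one, mul_one, one_mul] at h4
      exact h.large.z_ne (mul_eq_left.1 h4.symm)
  refine ⟨e, ta_of_two he (by rw [hev]; exact hv2), ta_of_two (KDone.K.ι.range.mul_mem h.large.z_mem he) ?_, hze, ?_, ?_⟩
  · rw [h.eta_mul _ h.large.z_mem _ he, h.eta_z, zero_add, hev]
    exact hv2
  · conv_lhs => rw [← hxe]
    group
  · let I : Subgroup ↥P := (centralizer ({e} : Set Mon)).subgroupOf P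
    have hI : ∀ a : ↥P, a ∉ I → (a : Mon) * e * (a : Mon)⁻¹ = e * KDone.K.z := by
      intro a ha
      rcases key ⟨a, hPz a.2⟩ (hv' a) with h3 | h3
      · exfalso
        apply ha
        rw [Subgroup.mem_subgroupOf, mem_centralizer_singleton_iff]
        conv_rhs => rw [← h3]
        show (a : Mon) * e = (a : Mon) * e * (a : Mon)⁻¹ * a
        group
      · exact h3
    have h3 := BAbs.card_dvd_two I (fun a b ha hb => by
      rw [Subgroup.mem_subgroupOf, mem_centralizer_singleton_iff]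
      have haz : (a : Mon) * KDone.K.z = KDone.K.z * a := mem_centralizer_singleton_iff.1 (hPz a.2)
      have h4 : ((a * b : ↥P) : Mon) * e * ((a * b : ↥P) : Mon)⁻¹ = e := by
        calc ((a * b : ↥P) : Mon) * e * ((a * b : ↥P) : Mon)⁻¹ =
              (a : Mon) * (b * e * (b : Mon)⁻¹) * (a : Mon)⁻¹ := by
                rw [Subgroup.coe_mul]; group
          _ = (a : Mon) * (e * KDone.K.z) * (a : Mon)⁻¹ := by rw [hI b hb]
          _ = ((a : Mon) * e * (a : Mon)⁻¹) * (a * KDone.K.z * (a : Mon)⁻¹) := by group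
          _ = e * (KDone.K.z * KDone.K.z) := by rw [hI a ha, haz]; group
          _ = e := by rw [hzz, mul_one]
      conv_rhs => rw [← h4]
      group)
    refine h3.trans (mul_dvd_mul_left 2 ?_)
    refine Subgroup.card_dvd_of_injective (f := (((P.subtype).comp I.subtype).codRestrict (XT (x : Mon) e) ?_)) ?_
    · intro a
      rw [mem_XT]
      exact ⟨mem_centralizer_singleton_iff.1 (hPx a.1.2), mem_centralizer_singleton_iff.1 (Subgroup.mem_subgroupOf.1 a.2)⟩
    · intro a b hab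
      have h5 : ((a : ↥P) : Mon) = ((b : ↥P) : Mon) := congrArg (fun c : ↥(XT (x : Mon) e) => (c : Mon)) hab
      exact Subtype.ext (Subtype.ext h5)

/-! ### A pair -/

/-- the product with a central element -/
theorem f_mul {D : Type u} [Group D] {z : D} {A : Type v} [Group A] (f : ↥(centralizer ({z} : Set D)) →* A)
    {s w : D} (hs : s ∈ centralizer ({z} : Set D)) (hw : w ∈ centralizer ({z} : Set D)) (e : w = s * z)
    (h1 : ∀ hz : z ∈ centralizer ({z} : Set D), f ⟨z, hz⟩ = 1) : f ⟨w, hw⟩ = f ⟨s, hs⟩ := by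
  subst e
  have e1 : (⟨s * z, hw⟩ : ↥(centralizer ({z} : Set D))) = ⟨s, hs⟩ * ⟨z, mem_centralizer_singleton_iff.2 rfl⟩ := rfl
  rw [e1, map_mul, h1, mul_one]

theorem Two.comm {x t : Mon} (h : LThreeB.Row.TA (KDone.K.z * t)) (hx : KDone.K.z * x = x * KDone.K.z)
    (ht : KDone.K.z * t = t * KDone.K.z) : Two x t :=
  ⟨KDone.K.z, chart.large.z_sq, IsConj.refl _, hx, ht, h⟩

/-- the 2-part of `|C(y) ∩ C(s z)|` -/
theorem card_sz {y s : centralizer ({KDone.K.z} : Set Mon)} (hy : orderOf y = 3)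
    (hfr : fr (KChart.pi LThreeB.Row.cent y) = 1) (hs : LThreeB.Row.TA (s : Mon)) (hsy : (s : Mon) * y = y * s)
    (h7 : ¬ 7 ∣ Nat.card ↥(XT (y : Mon) s)) :
    2 ^ 13 ∣ Nat.card ↥(XT (y : Mon) ((s : Mon) * KDone.K.z)) ∧
      Nat.card ↥(XT (y : Mon) ((s : Mon) * KDone.K.z)) ∣ 3 ^ 13 * (2 * 3317760) := by
  have hfin : Finite Mon := MThirteen.Row.finite
  have h := chart
  obtain ⟨a1, a2, a3⟩ := ta_basic hs
  obtain ⟨N, hN⟩ := rad_zero hy hfr
  obtain ⟨hsim, hns, hfS⟩ := ns_zero hy hfr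
  have hS := suz_zero hy hfr
  have hcS : Nat.card (XX (KChart.pi LThreeB.Row.cent y)) = 448345497600 := by
    obtain ⟨e⟩ := hS
    rw [Nat.card_congr e.toEquiv]
    exact SporadicRecognition.SuzOrder.card_Suz
  have hXT : Nat.card ↥(XT (y : Mon) s) = Nat.card ↥(centralizer
        ({((lf hsy : ↥(centralizer ({zD y} : Set ↥(centralizer ({(y : Mon)} : Set Mon))))) :
          ↥(centralizer ({(y : Mon)} : Set Mon)))} : Set ↥(centralizer ({(y : Mon)} : Set Mon)))) :=
    (Nat.card_congr (centXT' (⟨s, mem_centralizer_singleton_iff.2 hsy⟩ :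
        ↥(centralizer ({(y : Mon)} : Set Mon)))).toEquiv).symm
  rw [hXT] at h7
  have a1' : ((lf hsy : ↥(centralizer ({zD y} : Set ↥(centralizer ({(y : Mon)} : Set Mon))))) :
      ↥(centralizer ({(y : Mon)} : Set Mon))) * (lf hsy : ↥(centralizer ({zD y} : Set _))) = 1 := Subtype.ext a1
  have c3 := rad_card hns hN (fun v hv hv1 => suz_card hS v hv hv1) a1' (fun h => a2 (congrArg Subtype.val h))
    (fun h => a3 (congrArg Subtype.val h)) h7
  have hsz : (s : Mon) * KDone.K.z = KDone.K.z * s := mem_centralizer_singleton_iff.1 s.2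
  have hyz : (y : Mon) * KDone.K.z = KDone.K.z * y := mem_centralizer_singleton_iff.1 y.2
  have hzz : KDone.K.z * KDone.K.z = 1 := h.large.z_sq
  have hwy : ((s : Mon) * KDone.K.z) * y = y * (s * KDone.K.z) := by
    calc (s : Mon) * KDone.K.z * y = s * (KDone.K.z * y) := by group
      _ = s * (y * KDone.K.z) := by rw [hyz]
      _ = (s * y) * KDone.K.z := by group
      _ = (y * s) * KDone.K.z := by rw [hsy]
      _ = _ := by group
  let W : ↥(centralizer ({(y : Mon)} : Set Mon)) := ⟨(s : Mon) * KDone.K.z, mem_centralizer_singleton_iff.2 hwy⟩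
  have hWW : W * W = 1 := Subtype.ext (by
    show (s : Mon) * KDone.K.z * (s * KDone.K.z) = 1
    calc (s : Mon) * KDone.K.z * (s * KDone.K.z) = (s * KDone.K.z) * (KDone.K.z * s) := by rw [hsz]
      _ = s * (KDone.K.z * KDone.K.z) * s := by group
      _ = 1 := by rw [hzz, mul_one, a1])
  have hWz : W * zD y = zD y * W := Subtype.ext (by
    show (s : Mon) * KDone.K.z * KDone.K.z = KDone.K.z * (s * KDone.K.z)
    rw [← mul_assoc, ← hsz])
  obtain ⟨m, hm1, hm2, hm3⟩ := BAbs.card_cent hns hN hWW hWz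
  have fz : ∀ hz : zD y ∈ centralizer ({zD y} : Set ↥(centralizer ({(y : Mon)} : Set Mon))),
      toXX (KChart.pi LThreeB.Row.cent) y ⟨zD y, hz⟩ = 1 := fun hz =>
    hN.f_central hns fun g => Subtype.ext (mem_centralizer_singleton_iff.1 g.2)
  have hfW : toXX (KChart.pi LThreeB.Row.cent) y ⟨W, mem_centralizer_singleton_iff.2 hWz⟩ =
      toXX (KChart.pi LThreeB.Row.cent) y (lf hsy) := f_mul _ (lf hsy).2 _ rfl fz
  rw [hfW, c3] at hm2 hm3
  have hXW : Nat.card ↥(XT (y : Mon) ((s : Mon) * KDone.K.z)) = Nat.card ↥(centralizer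
        ({W} : Set ↥(centralizer ({(y : Mon)} : Set Mon)))) :=
    (Nat.card_congr (centXT' W).toEquiv).symm
  have hNd : Nat.card ↥N ∣ 3 ^ 13 := by
    obtain ⟨m, hm, hcm⟩ := hN.card_N_mul hns
    have h1 := H199.AbMon.three_zero' hy hfr
    have h2 : Nat.card ↥N * (448345497600 * m) ∣ 3 ^ 13 * (448345497600 * 2) := by
      rw [hcS] at hcm
      rw [← hcm]
      exact h1
    have h3 : Nat.card ↥N ∣ 3 ^ 13 * 2 := by
      refine Nat.dvd_of_mul_dvd_mul_right (show 0 < 448345497600 by norm_num) ?_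
      refine (Dvd.intro m (by ring)).trans (h2.trans (by norm_num))
    refine Nat.Coprime.dvd_of_dvd_mul_right ?_ h3
    exact Nat.coprime_two_right.2 hN.oN
  rw [hXW, hm1]
  constructor
  · exact (((by norm_num : 2 ^ 13 ∣ 3317760).trans hm3)).mul_left _
  · exact mul_dvd_mul ((card_dvd_of_le inf_le_left).trans hNd) (mul_dvd_mul_left 2 hm2)

/-- the rank of `x` commuting with `z` and a conjugate of it -/
theorem rank_six {y s : centralizer ({KDone.K.z} : Set Mon)} (hy : orderOf y = 3)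
    (hfr : fr (KChart.pi LThreeB.Row.cent y) = 1) (hs : LThreeB.Row.TA (s : Mon)) (hsy : (s : Mon) * y = y * s)
    (h7 : ¬ 7 ∣ Nat.card ↥(XT (y : Mon) s)) {k : Mon} (hk : k * ((s : Mon) * KDone.K.z) * k⁻¹ = KDone.K.z) :
    ∃ x : centralizer ({KDone.K.z} : Set Mon), (x : Mon) = k * y * k⁻¹ ∧ orderOf x = 3 ∧
      fr (KChart.pi LThreeB.Row.cent x) = 2 ^ 6 := by
  have hfin : Finite Mon := MThirteen.Row.finite
  have hsim : IsSimpleGroup Mon := MThirteen.Row.simple
  have h := chart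
  have I := CoOneFin.coOne
  obtain ⟨a1, a2, a3⟩ := ta_basic hs
  obtain ⟨-, hd⟩ := card_sz hy hfr hs hsy h7
  have hyz : (y : Mon) * KDone.K.z = KDone.K.z * y := mem_centralizer_singleton_iff.1 y.2
  have hwy : ((s : Mon) * KDone.K.z) * y = y * (s * KDone.K.z) := by
    calc (s : Mon) * KDone.K.z * y = s * (KDone.K.z * y) := by group
      _ = s * (y * KDone.K.z) := by rw [hyz]
      _ = (s * y) * KDone.K.z := by group
      _ = (y * s) * KDone.K.z := by rw [hsy]
      _ = _ := by group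
  have hxz : (k * y * k⁻¹) * KDone.K.z = KDone.K.z * (k * y * k⁻¹) := by
    have h1 := LThreeB.conj_comm' (g := k) hwy
    rw [hk] at h1
    exact h1.symm
  obtain ⟨x, hxe⟩ : ∃ x : centralizer ({KDone.K.z} : Set Mon), (x : Mon) = k * y * k⁻¹ :=
    ⟨⟨_, mem_centralizer_singleton_iff.2 hxz⟩, rfl⟩
  have hy' : orderOf (y : Mon) = 3 := by rw [Subgroup.orderOf_coe, hy]
  have hx : orderOf x = 3 := by
    rw [← Subgroup.orderOf_coe, hxe, ← hy']
    exact MulEquiv.orderOf_eq (MulAut.conj k) (y : Mon)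
  have hx' : orderOf (x : Mon) = 3 := by rw [Subgroup.orderOf_coe, hx]
  refine ⟨x, hxe, hx, ?_⟩
  -- the conjugate of `s`
  have hsx : (k * s * k⁻¹) * x = x * (k * s * k⁻¹) := by
    rw [hxe]
    exact LThreeB.conj_comm' hsy
  have hTA : LThreeB.Row.TA (k * s * k⁻¹) := hs.trans (isConj_iff.2 ⟨k, rfl⟩)
  obtain ⟨b1, b2, b3⟩ := ta_basic hTA
  have h7' : ¬ 7 ∣ Nat.card ↥(XT (x : Mon) (k * s * k⁻¹)) := by
    rw [hxe, card_XT_conj]
    exact h7
  rcases I.ranks (KChart.pi LThreeB.Row.cent x) (orderOf_pi h hx) with h2 | h2 | h2 | h2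
  · exfalso
    obtain ⟨N, hN⟩ := rad_zero hx h2
    have hS := suz_zero hx h2
    have hcS : Nat.card (XX (KChart.pi LThreeB.Row.cent x)) = 448345497600 := by
      obtain ⟨e⟩ := hS
      rw [Nat.card_congr e.toEquiv]
      exact SporadicRecognition.SuzOrder.card_Suz
    have h30 : Nat.card ↥(centralizer ({zD x} : Set ↥(centralizer ({(x : Mon)} : Set Mon)))) =
        Nat.card ↥(XT (x : Mon) KDone.K.z) := Nat.card_congr (centXT' (zD x)).toEquiv
    have h3 : 448345497600 ∣ Nat.card ↥(XT (x : Mon) KDone.K.z) := by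
      rw [← hcS, ← h30]
      exact Subgroup.card_dvd_of_surjective _ hN.surj
    have h4 := card_XT_conj k (y : Mon) ((s : Mon) * KDone.K.z)
    rw [hk, ← hxe] at h4
    rw [h4] at h3
    have h5 := h3.trans hd
    norm_num at h5
  · exact h2
  · exact absurd (seven_of_th hx' (MThirteen.Row.ta_order hTA) hsx (LThreeB.isoTh_of_inputs h I hx h2)) h7'
  · exact absurd (seven_of_fi hx' b1 (fi_type hx h2 (k := 1) (by group) b1 b2
      (fun h1 => by
        obtain ⟨c, hc⟩ := isConj_iff.1 h1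
        exact MThirteen.Row.ta_ne hTA c⁻¹ (by rw [← hc]; group)) hsx)) h7'

/-- **A pair.** -/
theorem exists_pair {y s : centralizer ({KDone.K.z} : Set Mon)} (hy : orderOf y = 3)
    (hfr : fr (KChart.pi LThreeB.Row.cent y) = 1) (hs : LThreeB.Row.TA (s : Mon)) (hsy : (s : Mon) * y = y * s)
    (h7 : ¬ 7 ∣ Nat.card ↥(XT (y : Mon) s)) : ∃ x t : Mon, orderOf x = 3 ∧ LThreeB.Row.TA t ∧ x * t = t * x ∧
      ¬ 7 ∣ Nat.card ↥(XT x t) ∧ Two x t := by
  have hfin : Finite Mon := MThirteen.Row.finite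
  have h := chart
  have hp2 : Fact (Nat.Prime 2) := ⟨Nat.prime_two⟩
  have hzz : KDone.K.z * KDone.K.z = 1 := h.large.z_sq
  obtain ⟨a1, a2, a3⟩ := ta_basic hs
  have hy' : orderOf (y : Mon) = 3 := by rw [Subgroup.orderOf_coe, hy]
  have hsz : (s : Mon) * KDone.K.z = KDone.K.z * s := mem_centralizer_singleton_iff.1 s.2
  have hyz : (y : Mon) * KDone.K.z = KDone.K.z * y := mem_centralizer_singleton_iff.1 y.2
  have hww : (s : Mon) * KDone.K.z * (s * KDone.K.z) = 1 := by
    calc (s : Mon) * KDone.K.z * (s * KDone.K.z) = (s * KDone.K.z) * (KDone.K.z * s) := by rw [hsz]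
      _ = s * (KDone.K.z * KDone.K.z) * s := by group
      _ = 1 := by rw [hzz, mul_one, a1]
  have hw1 : (s : Mon) * KDone.K.z ≠ 1 := by
    intro h1
    apply a3
    calc (s : Mon) = s * (KDone.K.z * KDone.K.z) := by rw [hzz, mul_one]
      _ = s * KDone.K.z * KDone.K.z := by group
      _ = KDone.K.z := by rw [h1, one_mul]
  have hwo : orderOf ((s : Mon) * KDone.K.z) = 2 := orderOf_eq_prime (by rw [pow_two, hww]) hw1
  rcases BpSpor.MBigModel.cls hwo with ⟨g, hg⟩ | hta
  · -- `s z` is conjugate to `z`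
    have hg' : g * KDone.K.z * g⁻¹ = (s : Mon) * KDone.K.z := hg
    have hk : g⁻¹ * ((s : Mon) * KDone.K.z) * g⁻¹⁻¹ = KDone.K.z := by
      rw [← hg']
      group
    obtain ⟨x, hxe, hx, h6⟩ := rank_six hy hfr hs hsy h7 hk
    obtain ⟨hd1, hd2⟩ := card_sz hy hfr hs hsy h7
    have h4 := card_XT_conj g⁻¹ (y : Mon) ((s : Mon) * KDone.K.z)
    rw [hk, ← hxe] at h4
    rw [← h4] at hd1
    -- a Sylow 2-subgroup
    obtain ⟨S⟩ : Nonempty (Sylow 2 ↥(XT (x : Mon) KDone.K.z)) := inferInstance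
    let P : Subgroup Mon := ((S : Subgroup ↥(XT (x : Mon) KDone.K.z)).map (XT (x : Mon) KDone.K.z).subtype :)
    have hPle : P ≤ XT (x : Mon) KDone.K.z := Subgroup.map_subtype_le _
    have hP2 : IsPGroup 2 ↥P := S.isPGroup'.map _
    have hPc : Nat.card ↥P = Nat.card ↥(S : Subgroup ↥(XT (x : Mon) KDone.K.z)) :=
      Subgroup.card_map_of_injective (XT (x : Mon) KDone.K.z).subtype_injective
    have hPd : 2 ^ 13 ∣ Nat.card ↥P := by
      rw [hPc]
      exact S.pow_dvd_card_of_pow_dvd_card hd1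
    obtain ⟨e, he1, he2, he3, he4, he5⟩ := six_elt hx h6 hP2 (hPle.trans inf_le_right) (hPle.trans inf_le_left)
    have hxz : KDone.K.z * (x : Mon) = x * KDone.K.z := (mem_centralizer_singleton_iff.1 x.2).symm
    refine ⟨x, e, by rw [Subgroup.orderOf_coe, hx], he1, he4.symm, ?_, Two.comm he2 hxz he3⟩
    -- the order of the centralizer
    have h12 : 2 ^ 12 ∣ Nat.card ↥(XT (x : Mon) e) := by
      have h5 := hPd.trans he5
      rw [pow_succ, mul_comm] at h5
      exact Nat.dvd_of_mul_dvd_mul_left (by norm_num) h5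
    have h6 : Nat.card ↥(XT (y : Mon) (g * e * g⁻¹)) = Nat.card ↥(XT (x : Mon) e) := by
      rw [← card_XT_conj g⁻¹ (y : Mon) (g * e * g⁻¹), ← hxe]
      congr 3
      group
    have hTA : LThreeB.Row.TA (g * e * g⁻¹) := he1.trans (isConj_iff.2 ⟨g, rfl⟩)
    have hey : (g * e * g⁻¹) * (y : Mon) = y * (g * e * g⁻¹) := by
      have h8 := LThreeB.conj_comm' (g := g) he4
      rw [hxe] at h8
      have h9 : g * (g⁻¹ * (y : Mon) * g⁻¹⁻¹) * g⁻¹ = y := by group
      rw [h9] at h8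
      exact h8
    rw [← h6] at h12 ⊢
    rcases zero_dvd hy hfr (MThirteen.Row.ta_order hTA) (fun d => MThirteen.Row.ta_ne hTA d) hey (XT_three hTA) with h8 | h8
    · intro h9
      have h10 := h9.trans h8
      norm_num at h10
    · exfalso
      have h10 := h12.trans h8
      norm_num at h10
  · exact ⟨y, s, hy', hs, hsy.symm, h7, Two.comm (by rw [← hsz]; exact hta) hyz.symm hsz.symm⟩

/-- **The pairs with centralizer of order prime to seven.** -/
theorem two_of_seven {x t : Mon} (hx : orderOf x = 3) (ht : LThreeB.Row.TA t) (hxt : x * t = t * x)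
    (h7 : ¬ 7 ∣ Nat.card ↥(XT x t)) : Two x t := by
  obtain ⟨y, s, g, hy, hfr, hsy, hg1, hg2⟩ := exists_nf hx ht hxt h7
  have hTA : LThreeB.Row.TA (s : Mon) := by
    rw [← hg2]
    exact ht.trans (isConj_iff.2 ⟨g, rfl⟩)
  have h7' : ¬ 7 ∣ Nat.card ↥(XT (y : Mon) s) := by
    rw [← hg1, ← hg2, card_XT_conj]
    exact h7
  obtain ⟨x₁, t₁, hx₁, ht₁, hxt₁, h71, hT⟩ := exists_pair hy hfr hTA hsy h7'
  obtain ⟨k, hk1, hk2⟩ := mon_conj hx ht hxt h7 hx₁ ht₁ hxt₁ h71
  rw [← hk1, ← hk2] at hT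
  exact hT.conj k

/-! ### The pairs with centralizer of order divisible by seven -/

/-- fixed points of an element of prime order acting on a subgroup -/
theorem card_mod {D : Type u} [Group D] [Finite D] {r : ℕ} [hr : Fact r.Prime] (T : Subgroup D) {g : D}
    (hg : orderOf g = r) (hn : g ∈ Subgroup.normalizer (T : Set D)) :
    Nat.card ↥T ≡ Nat.card ↥(T ⊓ centralizer ({g} : Set D) : Subgroup D) [MOD r] := by
  have hle : zpowers g ≤ Subgroup.normalizer (T : Set D) := Subgroup.zpowers_le.2 hn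
  have hp : IsPGroup r ↥(zpowers g) := IsPGroup.of_card (n := 1) (by rw [Nat.card_zpowers, hg, pow_one])
  let A : MulAction ↥(zpowers g) ↥T :=
    { smul := fun c t => ⟨(c : D) * t * (c : D)⁻¹, (Subgroup.mem_normalizer_iff.1 (hle c.2) _).1 t.2⟩
      one_smul := fun t => Subtype.ext (by
        show (1 : D) * t * (1 : D)⁻¹ = t
        group)
      mul_smul := fun a b t => Subtype.ext (by
        show ((a : D) * b) * t * ((a : D) * b)⁻¹ = a * (b * t * (b : D)⁻¹) * (a : D)⁻¹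
        group) }
  refine (hp.card_modEq_card_fixedPoints ↥T).trans ?_
  have e : Nat.card (MulAction.fixedPoints ↥(zpowers g) ↥T) = Nat.card ↥(T ⊓ centralizer ({g} : Set D) : Subgroup D) := by
    refine Nat.card_congr
      { toFun := fun v => ⟨((v : ↥T) : D), (v : ↥T).2, mem_centralizer_singleton_iff.2 ?_⟩
        invFun := fun v => ⟨⟨(v : D), v.2.1⟩, ?_⟩
        left_inv := fun v => rfl
        right_inv := fun v => rfl }
    · have h1 : g * ((v : ↥T) : D) * g⁻¹ = ((v : ↥T) : D) :=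
        congrArg Subtype.val (MulAction.mem_fixedPoints.1 v.2 ⟨g, Subgroup.mem_zpowers g⟩)
      rw [mul_inv_eq_iff_eq_mul] at h1
      exact h1.symm
    · rw [MulAction.mem_fixedPoints]
      rintro ⟨c, n, rfl⟩
      refine Subtype.ext ?_
      show g ^ n * (v : D) * (g ^ n)⁻¹ = v
      have h1 : (v : D) * g = g * v := mem_centralizer_singleton_iff.1 v.2.2
      rw [← ((show Commute (v : D) g from h1).zpow_right n).eq, mul_inv_cancel_right]
  rw [e]

theorem num1 : ∀ n : Fin 14, ∀ i k : Fin 4, i.val = 0 ∨ k.val = 0 ∨ 3 ^ n.val % 7 ≠ 3 ^ i.val % 7 ∨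
    3 ^ n.val % 11 ≠ 3 ^ k.val % 11 ∨ n.val ≤ 8 ∨ (n.val = 13 ∧ i.val = 1) := by decide +kernel

theorem num2 : ∀ a < 14, 3 ^ a % 7 = 3 ^ 1 % 7 → a ≤ 8 ∨ a = 13 := by decide

theorem card_inf_dvd {G : Type u} [Group G] [Finite G] {y : G} (T : Subgroup ↥(centralizer ({y} : Set G)))
    (g : ↥(centralizer ({y} : Set G))) :
    Nat.card ↥(T ⊓ centralizer ({g} : Set ↥(centralizer ({y} : Set G))) : Subgroup _) ∣
      Nat.card ↥(centralizer ({(g : G)} : Set G)) := by
  refine Subgroup.card_dvd_of_injective (f := (((centralizer ({y} : Set G)).subtype.comp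
    (Subgroup.subtype (T ⊓ centralizer ({g} : Set ↥(centralizer ({y} : Set G)))))).codRestrict
      (centralizer ({(g : G)} : Set G)) ?_)) ?_
  · intro c
    rw [mem_centralizer_singleton_iff]
    exact congrArg Subtype.val (mem_centralizer_singleton_iff.1 c.2.2)
  · intro a b hab
    have h5 : ((a : ↥(centralizer ({y} : Set G))) : G) = ((b : ↥(centralizer ({y} : Set G))) : G) :=
      congrArg (fun c : ↥(centralizer ({(g : G)} : Set G)) => (c : G)) hab
    exact Subtype.ext (Subtype.ext h5)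

/-- the order of the subgroup of fixed points -/
theorem exp_le {G : Type u} [Group G] [Finite G] {y : G} {T : Subgroup ↥(centralizer ({y} : Set G))}
    (g : ↥(centralizer ({y} : Set G))) (hT : Nat.card ↥T ∣ 3 ^ 13) (hy : orderOf y = 3) (hyT : self y ∈ T)
    {c : ℕ} (hc : Nat.card ↥(centralizer ({(g : G)} : Set G)) = c) (h4 : ¬ 3 ^ 4 ∣ c) :
    ∃ i : ℕ, 1 ≤ i ∧ i ≤ 3 ∧
      Nat.card ↥(T ⊓ centralizer ({g} : Set ↥(centralizer ({y} : Set G))) : Subgroup ↥(centralizer ({y} : Set G))) =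
        3 ^ i := by
  have h1 : Nat.card ↥(T ⊓ centralizer ({g} : Set ↥(centralizer ({y} : Set G))) :
      Subgroup ↥(centralizer ({y} : Set G))) ∣ 3 ^ 13 := (card_dvd_of_le inf_le_left).trans hT
  obtain ⟨i, -, hi⟩ := (Nat.dvd_prime_pow Nat.prime_three).1 h1
  refine ⟨i, ?_, ?_, hi⟩
  · by_contra hcon
    have h2 : i = 0 := by omega
    rw [h2, pow_zero, Subgroup.card_eq_one] at hi
    have h3 : self y ∈ T ⊓ centralizer ({g} : Set ↥(centralizer ({y} : Set G))) :=
      ⟨hyT, mem_centralizer_singleton_iff.2 (Subtype.ext (mem_centralizer_singleton_iff.1 g.2).symm)⟩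
    rw [hi, Subgroup.mem_bot] at h3
    have h4 : y = 1 := congrArg Subtype.val h3
    rw [h4, orderOf_one] at hy
    omega
  · by_contra hcon
    apply h4
    rw [← hc]
    refine Dvd.dvd.trans ?_ (card_inf_dvd T g)
    rw [hi]
    exact pow_dvd_pow 3 (by omega)

/-- **Fixed rank 0**, `7` divides the order. -/
theorem zero_small {y : centralizer ({KDone.K.z} : Set Mon)} (hy : orderOf y = 3)
    (hfr : fr (KChart.pi LThreeB.Row.cent y) = 1) {t : Mon} (ht : LThreeB.Row.TA t) (hty : t * (y : Mon) = y * t)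
    (h7 : 7 ∣ Nat.card ↥(XT (y : Mon) t)) : Nat.card ↥(XT (y : Mon) t) ≤ 2 * 1058158080 := by
  have hfin : Finite Mon := MThirteen.Row.finite
  have h := chart
  have hp : Fact (Nat.Prime 3) := ⟨Nat.prime_three⟩
  have hp7 : Fact (Nat.Prime 7) := ⟨by norm_num⟩
  have hp11 : Fact (Nat.Prime 11) := ⟨by norm_num⟩
  obtain ⟨a1, a2, -⟩ := ta_basic ht
  obtain ⟨N, hN⟩ := rad_zero hy hfr
  obtain ⟨hsim, hns, hfS⟩ := ns_zero hy hfr
  have hS := suz_zero hy hfr
  have hcS : Nat.card (XX (KChart.pi LThreeB.Row.cent y)) = 448345497600 := by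
    obtain ⟨e⟩ := hS
    rw [Nat.card_congr e.toEquiv]
    exact SporadicRecognition.SuzOrder.card_Suz
  have h14 := XT_three (x := (y : Mon)) ht
  obtain ⟨d, hd⟩ := _root_.Cfsg.Agent.H844.Ore.BThree.exists_conj_mem (D := ↥(centralizer ({(y : Mon)} : Set Mon))) (centralizer ({zD y} : Set _))
    (index_odd hN) (t := ⟨t, mem_centralizer_singleton_iff.2 hty⟩) (Subtype.ext a1)
  obtain ⟨τ, hτ⟩ : ∃ τ : ↥(centralizer ({(y : Mon)} : Set Mon)), d * ⟨t, mem_centralizer_singleton_iff.2 hty⟩ * d⁻¹ = τ :=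
    ⟨_, rfl⟩
  rw [hτ] at hd
  have hτG : (d : Mon) * t * (d : Mon)⁻¹ = τ := congrArg Subtype.val hτ
  have hTA : LThreeB.Row.TA (τ : Mon) := by
    rw [← hτG]
    exact ht.trans (isConj_iff.2 ⟨d, rfl⟩)
  obtain ⟨b1, b2, b3⟩ := ta_basic hTA
  have hXT : Nat.card ↥(XT (y : Mon) t) = Nat.card ↥(centralizer ({τ} : Set ↥(centralizer ({(y : Mon)} : Set Mon)))) := by
    have e1 : Nat.card ↥(centralizer ({τ} : Set ↥(centralizer ({(y : Mon)} : Set Mon)))) = Nat.card ↥(XT (y : Mon) τ) :=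
      Nat.card_congr (centXT' τ).toEquiv
    have hdy : (d : Mon) * y * (d : Mon)⁻¹ = y := by
      rw [mem_centralizer_singleton_iff.1 d.2, mul_inv_cancel_right]
    rw [e1, ← hτG, ← card_XT_conj (d : Mon) (y : Mon) t, hdy]
  rw [hXT] at h7 h14 ⊢
  have hττ : τ * τ = 1 := Subtype.ext b1
  have hτ1 : τ ≠ 1 := fun h => b2 (congrArg Subtype.val h)
  have hτne : τ ≠ zD y := fun h => b3 (congrArg Subtype.val h)
  have hτz : τ * zD y = zD y * τ := mem_centralizer_singleton_iff.1 hd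
  obtain ⟨m, hm1, hm2, hm3⟩ := BAbs.card_cent hns hN hττ hτz
  obtain ⟨c1, c2⟩ := rad_ne hN (τ := ⟨τ, mem_centralizer_singleton_iff.2 hτz⟩) hττ hτ1 hτne
  have hNd : Nat.card ↥N ∣ 3 ^ 13 := by
    obtain ⟨m, hm, hcm⟩ := hN.card_N_mul hns
    have h1 := H199.AbMon.three_zero' hy hfr
    have h2 : Nat.card ↥N * (448345497600 * m) ∣ 3 ^ 13 * (448345497600 * 2) := by
      rw [hcS] at hcm
      rw [← hcm]
      exact h1
    have h3 : Nat.card ↥N ∣ 3 ^ 13 * 2 := by
      refine Nat.dvd_of_mul_dvd_mul_right (show 0 < 448345497600 by norm_num) ?_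
      refine (Dvd.intro m (by ring)).trans (h2.trans (by norm_num))
    refine Nat.Coprime.dvd_of_dvd_mul_right ?_ h3
    exact Nat.coprime_two_right.2 hN.oN
  have hTN : Nat.card ↥(N ⊓ centralizer ({τ} : Set ↥(centralizer ({(y : Mon)} : Set Mon))) : Subgroup _) ∣ Nat.card ↥N :=
    card_dvd_of_le inf_le_left
  rcases suz_card hS _ c1 c2 with h5 | h5
  · exfalso
    rw [h5] at hm2
    have h6 := h7.trans (hm1 ▸ mul_dvd_mul (hTN.trans hNd) (mul_dvd_mul_left 2 hm2))
    norm_num at h6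
  rw [h5] at hm2 hm3
  -- elements of order 7 and 11
  obtain ⟨g, hg⟩ := exists_prime_orderOf_dvd_card' 7 h7
  have hgτ : (g : ↥(centralizer ({(y : Mon)} : Set Mon))) * τ = τ * g := mem_centralizer_singleton_iff.1 g.2
  have hgo : orderOf (g : ↥(centralizer ({(y : Mon)} : Set Mon))) = 7 := by rw [Subgroup.orderOf_coe, hg]
  have hgG : orderOf ((g : ↥(centralizer ({(y : Mon)} : Set Mon))) : Mon) = 7 := by rw [Subgroup.orderOf_coe, hgo]
  have hcg : Nat.card ↥(centralizer ({((g : ↥(centralizer ({(y : Mon)} : Set Mon))) : Mon)} : Set Mon)) = 4030387200 * 7 :=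
    H478.SporBaby.card_cent hTA hgG (congrArg Subtype.val hgτ)
  have h11 : 11 ∣ Nat.card ↥(centralizer ({zD y} : Set ↥(centralizer ({(y : Mon)} : Set Mon)))) := by
    refine Dvd.dvd.trans ?_ (Subgroup.card_dvd_of_surjective _ hN.surj)
    rw [hcS]
    norm_num
  obtain ⟨r, hr⟩ := exists_prime_orderOf_dvd_card' 11 h11
  have hrz : (r : ↥(centralizer ({(y : Mon)} : Set Mon))) * zD y = zD y * r := mem_centralizer_singleton_iff.1 r.2
  have hro : orderOf (r : ↥(centralizer ({(y : Mon)} : Set Mon))) = 11 := by rw [Subgroup.orderOf_coe, hr]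
  have hrG : orderOf ((r : ↥(centralizer ({(y : Mon)} : Set Mon))) : Mon) = 11 := by rw [Subgroup.orderOf_coe, hro]
  have hcr : Nat.card ↥(centralizer ({((r : ↥(centralizer ({(y : Mon)} : Set Mon))) : Mon)} : Set Mon)) = 11 * 95040 := by
    refine H199.AbMon.eleven hrG ⟨1, ?_⟩
    have h8 : ((r : ↥(centralizer ({(y : Mon)} : Set Mon))) : Mon) * KDone.K.z = KDone.K.z * r := congrArg Subtype.val hrz
    simp only [one_mul, inv_one, mul_one]
    exact h8.symm
  -- the exponents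
  have hnN := hN.nN
  have hyD : ∀ c : ↥(centralizer ({(y : Mon)} : Set Mon)), self (y : Mon) * c = c * self (y : Mon) := fun c => (hN.xc c).symm
  have hy' : orderOf (y : Mon) = 3 := by rw [Subgroup.orderOf_coe, hy]
  obtain ⟨T, hT⟩ : ∃ T : Subgroup ↥(centralizer ({(y : Mon)} : Set Mon)),
    N ⊓ centralizer ({τ} : Set ↥(centralizer ({(y : Mon)} : Set Mon))) = T := ⟨_, rfl⟩
  rw [hT] at hm1 hTN
  have hyT : self (y : Mon) ∈ T := by
    rw [← hT]
    exact ⟨hN.xN, mem_centralizer_singleton_iff.2 (hyD τ)⟩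
  have hgN : ∀ c : ↥(centralizer ({(y : Mon)} : Set Mon)), c ∈ Subgroup.normalizer (N : Set _) := by
    intro c
    rw [Subgroup.normalizer_eq_top]
    trivial
  have hgT : (g : ↥(centralizer ({(y : Mon)} : Set Mon))) ∈ Subgroup.normalizer (T : Set _) := by
    rw [← hT]
    refine Subgroup.mem_normalizer_iff.2 fun v => ?_
    have h1 := Subgroup.mem_normalizer_iff.1 (hgN g) v
    have h2 := Subgroup.mem_normalizer_iff.1 (Subgroup.le_normalizer g.2) v
    exact and_congr h1 h2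
  obtain ⟨n, hn, hNc⟩ := (Nat.dvd_prime_pow Nat.prime_three).1 hNd
  obtain ⟨a, ha, hTc⟩ := (Nat.dvd_prime_pow Nat.prime_three).1 (hTN.trans hNd)
  obtain ⟨i, hi1, hi3, hi⟩ := exp_le (T := N) g.1 hNd hy' hN.xN hcg (by norm_num)
  obtain ⟨j, hj1, hj3, hj⟩ := exp_le (T := T) g.1 (hTN.trans hNd) hy' hyT hcg (by norm_num)
  obtain ⟨k, hk1, hk3, hk⟩ := exp_le (T := N) r.1 hNd hy' hN.xN hcr (by norm_num)
  have e1 := card_mod N hgo (hgN g)
  have e2 := card_mod T hgo hgT
  have e3 := card_mod N hro (hgN r)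
  rw [hNc, hi] at e1
  rw [hTc, hj] at e2
  rw [hNc, hk] at e3
  have han : a ≤ n := by
    rw [hTc, hNc] at hTN
    exact (Nat.pow_dvd_pow_iff_le_right (by norm_num)).1 hTN
  have hji : j ≤ i := by
    have h1 : Nat.card ↥(T ⊓ centralizer ({g.1} : Set ↥(centralizer ({(y : Mon)} : Set Mon))) :
        Subgroup ↥(centralizer ({(y : Mon)} : Set Mon))) ∣ Nat.card ↥(N ⊓ centralizer ({g.1} : Set
        ↥(centralizer ({(y : Mon)} : Set Mon))) : Subgroup ↥(centralizer ({(y : Mon)} : Set Mon))) :=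
      card_dvd_of_le (inf_le_inf_right _ (hT ▸ inf_le_left))
    rw [hj, hi] at h1
    exact (Nat.pow_dvd_pow_iff_le_right (by norm_num)).1 h1
  have ha8 : a ≤ 8 := by
    rcases num1 ⟨n, by omega⟩ ⟨i, by omega⟩ ⟨k, by omega⟩ with h1 | h1 | h1 | h1 | h1 | ⟨h1, h2⟩
    · exact absurd h1 (show i ≠ 0 by omega)
    · exact absurd h1 (show k ≠ 0 by omega)
    · exact absurd e1 h1
    · exact absurd e3 h1
    · have h2 : n ≤ 8 := h1
      omega
    · have h3 : i = 1 := h2
      have h4 : j = 1 := by omega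
      rw [h4] at e2
      rcases num2 a (by omega) e2 with h6 | h6
      · exact h6
      · exfalso
        apply h14
        rw [hm1, hTc, h6]
        exact Dvd.dvd.trans (by norm_num) (mul_dvd_mul_left (3 ^ 13) ((by norm_num : 3 ∣ 161280).trans hm3))
  rw [hm1, hTc]
  have h1 := Nat.le_of_dvd (by norm_num) hm2
  have h2 : 3 ^ a ≤ 3 ^ 8 := Nat.pow_le_pow_right (by norm_num) ha8
  calc 3 ^ a * (2 * m) ≤ 3 ^ 8 * (2 * 161280) := Nat.mul_le_mul h2 (Nat.mul_le_mul_left 2 h1)
    _ = 2 * 1058158080 := by norm_num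

/-- **`x` of order 3 in the Monster commuting with `t` of class 2A.** -/
theorem mon_two {x t : Mon} (hx : orderOf x = 3) (ht : LThreeB.Row.TA t) (hxt : x * t = t * x) :
    Two x t ∨ Nat.card ↥(XT x t) ≤ 2 * 1058158080 ∨ FiType t x := by
  have hfin : Finite Mon := MThirteen.Row.finite
  have hsim : IsSimpleGroup Mon := MThirteen.Row.simple
  have h := chart
  have I := CoOneFin.coOne
  by_cases h7 : 7 ∣ Nat.card ↥(XT x t)
  swap
  · exact Or.inl (two_of_seven hx ht hxt h7)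
  right
  have hto := MThirteen.Row.ta_order ht
  obtain ⟨htt, ht1, -⟩ := ta_basic ht
  have htz : ¬ IsConj KDone.K.z t := by
    intro h1
    obtain ⟨c, hc⟩ := isConj_iff.1 h1
    exact MThirteen.Row.ta_ne ht c⁻¹ (by rw [← hc]; group)
  obtain ⟨g, hg, -⟩ := LThreeM.FiRow.exists_z_in (x := x) (v := t) (by rw [← hx, pow_orderOf_eq_one]) ht hxt
  have h1 : (g⁻¹ * x * g⁻¹⁻¹) * KDone.K.z = KDone.K.z * (g⁻¹ * x * g⁻¹⁻¹) := by
    calc (g⁻¹ * x * g⁻¹⁻¹) * KDone.K.z = g⁻¹ * (x * (g * KDone.K.z * g⁻¹)) * g := by group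
      _ = g⁻¹ * ((g * KDone.K.z * g⁻¹) * x) * g := by rw [hg]
      _ = KDone.K.z * (g⁻¹ * x * g⁻¹⁻¹) := by group
  obtain ⟨y, hyx⟩ : ∃ y : centralizer ({KDone.K.z} : Set Mon), (y : Mon) = g⁻¹ * x * g⁻¹⁻¹ :=
    ⟨⟨g⁻¹ * x * g⁻¹⁻¹, mem_centralizer_singleton_iff.2 h1⟩, rfl⟩
  have hy : orderOf y = 3 := by
    rw [← Subgroup.orderOf_coe, hyx, ← hx]
    exact MulEquiv.orderOf_eq (MulAut.conj g⁻¹) x
  have hy' : orderOf (y : Mon) = 3 := by rw [Subgroup.orderOf_coe, hy]
  have hta : LThreeB.Row.TA (g⁻¹ * t * g⁻¹⁻¹) := IsConj.trans ht (isConj_iff.2 ⟨g⁻¹, rfl⟩)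
  have hyt : (y : Mon) * (g⁻¹ * t * g⁻¹⁻¹) = (g⁻¹ * t * g⁻¹⁻¹) * y := by
    rw [hyx]
    exact LThreeB.conj_comm' hxt
  have hXT : Nat.card ↥(XT (y : Mon) (g⁻¹ * t * g⁻¹⁻¹)) = Nat.card ↥(XT x t) := by
    rw [hyx]
    exact card_XT_conj g⁻¹ x t
  rw [← hXT] at h7 ⊢
  rcases I.ranks (KChart.pi LThreeB.Row.cent y) (orderOf_pi h hy) with h2 | h2 | h2 | h2
  · exact Or.inl (zero_small hy h2 hta hyt.symm h7)
  · obtain ⟨x₀, u, g₀, hx₀, hfr₀, huz, hux, hne, hg₀⟩ := MThirteen.Row.hasPair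
    obtain ⟨k, hk⟩ := conj_six h MThirteen.Row.trNe I.ranks I.six
      (fun x hx h2 => ⟨(good_of_inputs h I hx h2 : Good.{0} _).simple, (good_of_inputs h I hx h2 : Good.{0} _).nc⟩)
      hx₀ hfr₀ huz hux hne hg₀ hy h2
    have h5 := card_XT_conj k (y : Mon) (g⁻¹ * t * g⁻¹⁻¹)
    rw [hk] at h5
    rw [← h5] at h7 ⊢
    exact Or.inl (zero_small hx₀ hfr₀ (t := k * (g⁻¹ * t * g⁻¹⁻¹) * k⁻¹) (hta.trans (isConj_iff.2 ⟨k, rfl⟩))
      (by rw [← hk]; exact LThreeB.conj_comm' hyt.symm) h7)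
  · obtain ⟨e⟩ := LThreeB.isoTh_of_inputs h I hy h2
    obtain ⟨τ, hτ, hd⟩ := card_XT_dvd Nat.prime_three (by norm_num) hy'
      (by rw [← hto]; exact MulEquiv.orderOf_eq (MulAut.conj g⁻¹) t) hyt
    rw [LThreeB.card_centralizer_congr e, card_inv_th (by rw [MulEquiv.orderOf_eq, hτ])] at hd
    exact Or.inl ((Nat.le_of_dvd (by norm_num) hd).trans (by norm_num))
  · exact Or.inr (fi_type hy h2 (k := g) (by rw [hyx]; group) htt ht1 htz hxt.symm)

/-- **P8** (the form of helper494's `H494.TwoB.Final`). -/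
theorem p8 {K : ℕ} (hK : 1058158080 ≤ K) {x t : Mon} (hx : orderOf x = 3) (ht : LThreeB.Row.TA t) (hxt : x * t = t * x) :
    (∃ w : Mon, IsConj KDone.K.z w ∧ w * x = x * w ∧ w * t = t * w ∧ LThreeB.Row.TA (w * t)) ∨
      Nat.card ↥(XT x t) ≤ 2 * K ∨ FiType t x := by
  rcases mon_two hx ht hxt with ⟨w, -, h1, h2, h3, h4⟩ | h1 | h1
  · exact Or.inl ⟨w, h1, h2, h3, h4⟩
  · exact Or.inr (Or.inl (h1.trans (Nat.mul_le_mul_left 2 hK)))
  · exact Or.inr (Or.inr h1)

end Cfsg.Agent.H844.TwoB.P8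
end

-- part: H494/TwoB/Row
section
/-!
# The row 2.B of S2491, S2492 (helper494)

`rowA_B_of` : `RowA K` for `Spor.IsoB K`, from `Base` (the classification and the table of the orders).
-/

set_option autoImplicit false
set_option maxRecDepth 100000

universe u

namespace Cfsg.Agent.H494.TwoB

open Cfsg Cfsg.Agent Cfsg.Agent.H777.Ore Cfsg.Agent.H844.Ore Cfsg.Agent.H480.Ore
open Cfsg.Agent.H630.Baby (Mon)
open Cfsg.Agent.BpSpor.MBigModel (MG zz)
open Cfsg.Agent.LThreeB (XT)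
open Cfsg.Agent.H715.Mon.Grp (SThree sThree)
open Cfsg.Agent.H6.QO (RowN RowA)
open Subgroup (centralizer mem_centralizer_singleton_iff center)

/-- the prime orders -/
theorem h5_le (B : H940.Eng.Base) (y : Spor.BabyMonster) (hp : (orderOf y).Prime) (h5 : 5 ≤ orderOf y) :
    Nat.card ↥(centralizer ({y} : Set Spor.BabyMonster)) ≤ 1500000000 := by
  have h : Spor.IsoB Spor.BabyMonster := ⟨MulEquiv.refl _⟩
  have hfin : Finite Spor.BabyMonster := Nat.finite_of_card_ne_zero (by rw [NotCT.Orders.b h]; norm_num)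
  by_cases e5 : orderOf y = 5
  · exact (H705.OreB.Five.five h e5).trans (by norm_num)
  have h7 : 7 ≤ orderOf y := by
    by_contra hcon
    have h6 : orderOf y = 6 := by omega
    rw [h6] at hp
    norm_num at hp
  by_cases e23 : orderOf y = 23
  · rw [H715.Mon.Exact.B.cent23 (sThree B) h e23]; norm_num
  exact (H705.OreB.Small.le_small B h hp h7 e23 rfl).trans (by norm_num)

/-- **2.B from P8.** -/
theorem rowA_of_p8 (B : H940.Eng.Base)
    (hP8 : ∀ {x t : MG}, orderOf x = 3 → LThreeB.Row.TA t → x * t = t * x →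
      TwoW x t ∨ Nat.card ↥(XT x t) ≤ 3000000000 ∨ FiType t x) : RowA Spor.BabyMonster := by
  have hB : Spor.IsoB Spor.BabyMonster := ⟨MulEquiv.refl _⟩
  refine rowA_of (K := 1500000000) (by norm_num) H258.TwoB.hTab H658.TwoB.h23 H658.TwoB.h4
    (fun hw ht hc hwt hu h2 => H658.TwoB.cp hw ht hc hwt hu h2) (p1 (sThree B)) (h5_le B)
    (fun y hy => (H570.TwoB.Nine.nine_le hB hy).trans (by norm_num)) ?_
    (fun hx ht hxt => (hP8 hx ht hxt).imp_right fun h => h.imp_left fun h => h.trans (by norm_num))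
  intro u hA h2 e x t n hx hF ht htx
  rcases H480.QS.three_A_cover2 hA h2 e hx hF H326.QS.FiRow.rowN_Fi22
    (fun g hg => H570.Ore.RowB.t1_b (sThree B) hB g hg) ht htx with h | h
  · exact Or.inl h
  · exact Or.inr (h.trans (by norm_num))

/-- **The row 2.B of S2491, S2492.** -/
theorem rowA_model (B : H940.Eng.Base) : RowA Spor.BabyMonster :=
  rowA_of_p8 B fun hx ht hxt => H844.TwoB.P8.p8 (K := 1500000000) (by norm_num) hx ht hxt

theorem rowA_B_of (B : H940.Eng.Base) {K : Type u} [Group K] (h : Spor.IsoB K) : RowA K := by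
  obtain ⟨e⟩ := h
  exact (rowA_model B).congr e.symm

end Cfsg.Agent.H494.TwoB
end

-- part: H494/TwoB/RowFin
section
/-!
# The row 2.B of S2491, S2492 without hypotheses (helper494)
-/

set_option autoImplicit false

universe u

namespace Cfsg.Agent.H494.TwoB

open Cfsg Cfsg.Agent Cfsg.Agent.H6.QO

theorem base : Cfsg.Agent.H940.Eng.Base := ⟨Cfsg.Agent.OrdDiv.table, fun _ _ _ _ => Cfsg.Agent.S0000.result⟩

/-- **The row 2.B of S2491, S2492.** -/
theorem rowA_B {K : Type u} [Group K] (h : Spor.IsoB K) : RowA K := rowA_B_of base h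

end Cfsg.Agent.H494.TwoB
end

private theorem dce_674ac50b890e : _root_.True := by
  try have : _root_.True := by simp only [_root_.Cfsg.Agent.H844.TwoB.Six.cv.eq_1]
  try have : _root_.True := by simp only [_root_.Cfsg.Agent.H570.TwoB.SuzSix.chkD.eq_1]
  try have : _root_.True := by simp only [_root_.Cfsg.Agent.H844.TwoB.Six.cb.eq_1]
  try have : _root_.True := by simp only [_root_.Cfsg.Agent.H844.TwoB.Six.cu.eq_1]
  try have : _root_.True := by simp only [_root_.Cfsg.Agent.H844.TwoB.Six.J.eq_1]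
  try have : _root_.True := by simp only [_root_.Cfsg.Agent.H844.TwoB.Six.md.eq_1]
  exact _root_.True.intro
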